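import Mathlib

/-!
# Groups in which every square lies in the derived subgroup (helper81)

`SqDer T` says `x ^ 2 ∈ commutator T` for all `x : T`, that is, `T / T'` is an elementary abelian
`2`-group.  The property follows from a generating set whose squares lie in the derived subgroup,
and is inherited by images, direct products and regular wreath products with a finite group of
exponent two.
-/

set_option autoImplicit false

namespace Cfsg.Agent.Lib.Helper81.SqD

open scoped commutatorElement

/-- Every square lies in the derived subgroup. -/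
def SqDer (T : Type*) [Group T] : Prop := ∀ x : T, x ^ 2 ∈ commutator T

theorem map_commutator_le {A B : Type*} [Group A] [Group B] (f : A →* B) :
    (commutator A).map f ≤ commutator B := by
  rw [commutator_def, Subgroup.map_commutator, commutator_def]
  exact Subgroup.commutator_mono le_top le_top

/-- The elements whose square lies in the derived subgroup form a subgroup. -/
def sqSub (T : Type*) [Group T] : Subgroup T :=
  (MonoidHom.ker (powMonoidHom 2 : Abelianization T →* Abelianization T)).comap Abelianization.of

theorem mem_sqSub {T : Type*} [Group T] (x : T) : x ∈ sqSub T ↔ x ^ 2 ∈ commutator T := by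
  rw [sqSub, Subgroup.mem_comap, MonoidHom.mem_ker, powMonoidHom_apply, ← map_pow,
    ← MonoidHom.mem_ker, Abelianization.ker_of]

/-- A generating set with squares in the derived subgroup suffices. -/
theorem sqDer_of_closure {T : Type*} [Group T] (S : Set T) (hS : Subgroup.closure S = ⊤)
    (h : ∀ s ∈ S, s ^ 2 ∈ commutator T) : SqDer T := by
  intro x
  rw [← mem_sqSub]
  have h1 : Subgroup.closure S ≤ sqSub T := by
    rw [Subgroup.closure_le]
    intro s hs
    exact (mem_sqSub s).2 (h s hs)
  rw [hS] at h1
  exact h1 (Subgroup.mem_top x)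

theorem SqDer.of_surjective {A B : Type*} [Group A] [Group B] (f : A →* B)
    (hf : Function.Surjective f) (h : SqDer A) : SqDer B := by
  intro y
  obtain ⟨x, rfl⟩ := hf y
  rw [← map_pow]
  exact map_commutator_le f (Subgroup.mem_map_of_mem f (h x))

theorem SqDer.of_mulEquiv {A B : Type*} [Group A] [Group B] (e : A ≃* B) (h : SqDer A) :
    SqDer B :=
  SqDer.of_surjective e.toMonoidHom e.surjective h

theorem SqDer.prod {A B : Type*} [Group A] [Group B] (hA : SqDer A) (hB : SqDer B) :
    SqDer (A × B) := by
  apply sqDer_of_closure (Set.range (MonoidHom.inl A B) ∪ Set.range (MonoidHom.inr A B))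
  · rw [eq_top_iff]
    rintro ⟨a, b⟩ -
    have h1 : ((a, b) : A × B) = MonoidHom.inl A B a * MonoidHom.inr A B b := by
      simp
    rw [h1]
    exact Subgroup.mul_mem _ (Subgroup.subset_closure (Or.inl ⟨a, rfl⟩))
      (Subgroup.subset_closure (Or.inr ⟨b, rfl⟩))
  · rintro s (⟨a, rfl⟩ | ⟨b, rfl⟩)
    · rw [← map_pow]
      exact map_commutator_le _ (Subgroup.mem_map_of_mem _ (hA a))
    · rw [← map_pow]
      exact map_commutator_le _ (Subgroup.mem_map_of_mem _ (hB b))

section Wreath

open RegularWreathProduct

variable {D Q : Type*} [Group D] [Group Q]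

/-- The base group of the regular wreath product. -/
def baseHom (D Q : Type*) [Group D] [Group Q] : (Q → D) →* D ≀ᵣ Q where
  toFun f := ⟨f, 1⟩
  map_one' := rfl
  map_mul' f g := by
    rw [RegularWreathProduct.mul_def]
    simp

theorem baseHom_mul_inl (a : D ≀ᵣ Q) : baseHom D Q a.left * inl a.right = a := by
  rw [RegularWreathProduct.mul_def]
  cases a
  simp [baseHom]
  rfl

/-- A regular wreath product of a `SqDer` group with a finite group of exponent two is `SqDer`. -/
theorem SqDer.wreath [Finite Q] (hD : SqDer D) (hQ : ∀ q : Q, q ^ 2 = 1) : SqDer (D ≀ᵣ Q) := by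
  classical
  apply sqDer_of_closure
    ((⋃ q : Q, Set.range ((baseHom D Q).comp (MonoidHom.mulSingle (fun _ : Q => D) q))) ∪
      Set.range (inl : Q →* D ≀ᵣ Q))
  · rw [eq_top_iff]
    intro a _
    rw [← baseHom_mul_inl a]
    refine Subgroup.mul_mem _ ?_ (Subgroup.subset_closure (Or.inr ⟨a.right, rfl⟩))
    have h1 : a.left ∈ (Subgroup.closure
        ((⋃ q : Q, Set.range ((baseHom D Q).comp (MonoidHom.mulSingle (fun _ : Q => D) q))) ∪
          Set.range (inl : Q →* D ≀ᵣ Q))).comap (baseHom D Q) := by
      apply Subgroup.pi_mem_of_mulSingle_mem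
      intro q
      rw [Subgroup.mem_comap]
      exact Subgroup.subset_closure (Or.inl (Set.mem_iUnion.2 ⟨q, ⟨a.left q, rfl⟩⟩))
    exact h1
  · rintro s (hs | ⟨q, rfl⟩)
    · obtain ⟨q, d, rfl⟩ := Set.mem_iUnion.1 hs
      rw [← map_pow]
      exact map_commutator_le _ (Subgroup.mem_map_of_mem _ (hD d))
    · rw [← map_pow, hQ, map_one]
      exact Subgroup.one_mem _

end Wreath

end Cfsg.Agent.Lib.Helper81.SqD
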