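import Mathlib
import Cfsg.Agent.Lib.Helper74.Symp
import Cfsg.Agent.Lib.Helper81.SqDer

/-!
# Sylow `2`-subgroups of symplectic groups in odd characteristic, abstractly (helper81)

`HasSyl F c m`: some finite `2`-group `T` with all squares in its derived subgroup and order
divisible by `2 ^ (m * c + v₂(m!))` acts faithfully on `l ⊕ l → F` (`l` of cardinality `m`)
preserving the standard symplectic form.  The predicate propagates from `m = 1` to every `m ≥ 1`
through wreath products with a group of order two (for powers of two) and direct products.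
-/

set_option autoImplicit false

namespace Cfsg.Agent.Lib.Helper81.SpSyl

open Cfsg.Agent.Lib.Helper74.Wreath Cfsg.Agent.Lib.Helper74.Symp Cfsg.Agent.Lib.Helper81.SqD

universe u

section Arith

theorem val_two_pow_factorial (k : ℕ) : padicValNat 2 (2 ^ k).factorial = 2 ^ k - 1 := by
  have hfact : Fact (Nat.Prime 2) := ⟨Nat.prime_two⟩
  induction k with
  | zero => simp
  | succ k ih =>
    rw [pow_succ, mul_comm, padicValNat_factorial_mul, ih]
    have : 1 ≤ 2 ^ k := Nat.one_le_two_pow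
    omega

theorem val_add_two_pow {k i : ℕ} (hi : 0 < i) (hik : i < 2 ^ k) :
    padicValNat 2 (2 ^ k + i) = padicValNat 2 i := by
  have hfact : Fact (Nat.Prime 2) := ⟨Nat.prime_two⟩
  apply le_antisymm
  · have h1 : 2 ^ padicValNat 2 (2 ^ k + i) ∣ 2 ^ k + i := pow_padicValNat_dvd
    have h2 : padicValNat 2 (2 ^ k + i) ≤ k := by
      by_contra hcon
      push Not at hcon
      have h3 : 2 ^ (k + 1) ∣ 2 ^ k + i := (pow_dvd_pow 2 hcon).trans h1
      have h4 := Nat.le_of_dvd (by omega) h3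
      rw [pow_succ] at h4
      omega
    have h5 : 2 ^ padicValNat 2 (2 ^ k + i) ∣ i :=
      (Nat.dvd_add_right (pow_dvd_pow 2 h2)).1 h1
    exact (padicValNat_dvd_iff_le (by omega)).1 h5
  · have h1 : 2 ^ padicValNat 2 i ∣ i := pow_padicValNat_dvd
    have h2 : padicValNat 2 i ≤ k := by
      by_contra hcon
      push Not at hcon
      have h3 : 2 ^ (k + 1) ∣ i := (pow_dvd_pow 2 hcon).trans h1
      have h4 := Nat.le_of_dvd hi h3
      rw [pow_succ] at h4
      omega
    have h5 : 2 ^ padicValNat 2 i ∣ 2 ^ k + i :=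
      (Nat.dvd_add_right (pow_dvd_pow 2 h2)).2 h1
    exact (padicValNat_dvd_iff_le (by omega)).1 h5

theorem val_factorial_add_two_pow (k : ℕ) : ∀ r, r < 2 ^ k →
    padicValNat 2 (2 ^ k + r).factorial =
      padicValNat 2 (2 ^ k).factorial + padicValNat 2 r.factorial := by
  have hfact : Fact (Nat.Prime 2) := ⟨Nat.prime_two⟩
  intro r
  induction r with
  | zero => intro _; simp
  | succ r ih =>
    intro hr
    rw [← add_assoc, Nat.factorial_succ, Nat.factorial_succ,
      padicValNat.mul (by omega) (Nat.factorial_ne_zero _),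
      padicValNat.mul (by omega) (Nat.factorial_ne_zero _), ih (by omega),
      add_assoc (2 ^ k) r 1, val_add_two_pow (by omega) hr]
    omega

theorem sq_mulZMod2 : ∀ q : Multiplicative (ZMod 2), q ^ 2 = 1 := by decide

end Arith

section HasSyl

open RegularWreathProduct

/-- Some finite `2`-group with all squares in its derived subgroup and order divisible by
`2 ^ (m * c + v₂(m!))` acts faithfully on `l ⊕ l → F`, `l` of cardinality `m`, preserving the
standard symplectic form. -/
def HasSyl (F : Type u) [Field F] (c m : ℕ) : Prop :=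
  ∃ (l : Type) (_ : Fintype l) (_ : Nonempty l) (T : Type u) (_ : Group T) (_ : Finite T)
    (ρ : Representation F T (l ⊕ l → F)),
    Fintype.card l = m ∧ IsPGroup 2 T ∧
      2 ^ (m * c + padicValNat 2 m.factorial) ∣ Nat.card T ∧ SqDer T ∧
      Function.Injective ρ ∧ ∀ g u v, om l (ρ g u) (ρ g v) = om l u v

theorem HasSyl.step {F : Type u} [Field F] {c m : ℕ} (h : HasSyl F c m)
    (hν : padicValNat 2 (2 * m).factorial ≤ 2 * padicValNat 2 m.factorial + 1) :
    HasSyl F c (2 * m) := by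
  have hfact : Fact (Nat.Prime 2) := ⟨Nat.prime_two⟩
  obtain ⟨l, _, _, T, _, _, ρ, hcard, hT, hdvd, hsq, hinj, hpres⟩ := h
  have hntQ : Nontrivial (Multiplicative (ZMod 2)) := by
    have : Fact (1 < 2) := ⟨by norm_num⟩
    infer_instance
  have hσinj := wrRep_injective (Q := Multiplicative (ZMod 2)) ρ hinj
  have hσpres : ∀ (a : T ≀ᵣ Multiplicative (ZMod 2))
      (x y : Multiplicative (ZMod 2) → (l ⊕ l → F)),
      (∑ q, om l (wrRep ρ a x q) (wrRep ρ a y q)) = ∑ q, om l (x q) (y q) := by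
    intro a x y
    simp only [wrRep_apply, hpres]
    exact Equiv.sum_comp (Equiv.mulLeft a.right⁻¹) (fun q => om l (x q) (y q))
  obtain ⟨ρ', hinj', hpres'⟩ := transport (l := Multiplicative (ZMod 2) × l)
    (fun x y : Multiplicative (ZMod 2) → (l ⊕ l → F) => ∑ q, om l (x q) (y q))
    ((LinearEquiv.funCongrLeft F F (Equiv.prodSumDistrib (Multiplicative (ZMod 2)) l l)).trans
      (LinearEquiv.curry F F (Multiplicative (ZMod 2)) (l ⊕ l)))
    (by
      intro u v
      simp only [om, Fintype.sum_prod_type]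
      rfl)
    (wrRep ρ) hσpres hσinj
  have hcQ : Nat.card (Multiplicative (ZMod 2)) = 2 := by
    rw [Nat.card_eq_fintype_card, Fintype.card_multiplicative, ZMod.card]
  have hc : Nat.card (T ≀ᵣ Multiplicative (ZMod 2)) = Nat.card T ^ 2 * 2 := by
    rw [RegularWreathProduct.card, hcQ]
  refine ⟨Multiplicative (ZMod 2) × l, inferInstance, inferInstance,
    T ≀ᵣ Multiplicative (ZMod 2), inferInstance, inferInstance, ρ', ?_, ?_, ?_, ?_,
    hinj', hpres'⟩
  · rw [Fintype.card_prod, Fintype.card_multiplicative, ZMod.card, hcard]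
  · obtain ⟨a, ha⟩ := IsPGroup.iff_card.1 hT
    have hc' : Nat.card (T ≀ᵣ Multiplicative (ZMod 2)) = 2 ^ (a * 2 + 1) := by
      rw [hc, ha, ← pow_mul, pow_succ]
    exact IsPGroup.of_card hc'
  · rw [hc]
    have h1 : (2 ^ (m * c + padicValNat 2 m.factorial)) ^ 2 * 2 ∣ Nat.card T ^ 2 * 2 :=
      mul_dvd_mul (pow_dvd_pow_of_dvd hdvd 2) (dvd_refl 2)
    refine dvd_trans ?_ h1
    rw [← pow_mul, ← pow_succ]
    apply pow_dvd_pow
    have h2 : 2 * m * c = m * c * 2 := by ring
    rw [h2]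
    omega
  · exact SqDer.wreath hsq sq_mulZMod2

theorem HasSyl.prod {F : Type u} [Field F] {c a b : ℕ} (h₁ : HasSyl F c a) (h₂ : HasSyl F c b)
    (hν : padicValNat 2 (a + b).factorial ≤
      padicValNat 2 a.factorial + padicValNat 2 b.factorial) :
    HasSyl F c (a + b) := by
  have hfact : Fact (Nat.Prime 2) := ⟨Nat.prime_two⟩
  obtain ⟨l₁, _, _, T₁, _, _, ρ₁, hcard₁, hT₁, hdvd₁, hsq₁, hinj₁, hpres₁⟩ := h₁
  obtain ⟨l₂, _, _, T₂, _, _, ρ₂, hcard₂, hT₂, hdvd₂, hsq₂, hinj₂, hpres₂⟩ := h₂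
  let σ : Representation F (T₁ × T₂) ((l₁ ⊕ l₁ → F) × (l₂ ⊕ l₂ → F)) :=
    { toFun := fun g => LinearMap.prodMap (ρ₁ g.1) (ρ₂ g.2)
      map_one' := by
        show LinearMap.prodMap (ρ₁ 1) (ρ₂ 1) = 1
        rw [map_one, map_one]
        exact LinearMap.prodMap_one
      map_mul' := by
        intro x y
        show LinearMap.prodMap (ρ₁ (x.1 * y.1)) (ρ₂ (x.2 * y.2)) = _
        rw [map_mul, map_mul]
        refine LinearMap.ext fun v => ?_
        simp [Module.End.mul_apply] }
  have hσinj : Function.Injective σ := by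
    intro x y hxy
    refine Prod.ext (hinj₁ ?_) (hinj₂ ?_)
    · refine LinearMap.ext fun w => ?_
      exact congrArg (fun f : Module.End F ((l₁ ⊕ l₁ → F) × (l₂ ⊕ l₂ → F)) => (f (w, 0)).1) hxy
    · refine LinearMap.ext fun w => ?_
      exact congrArg (fun f : Module.End F ((l₁ ⊕ l₁ → F) × (l₂ ⊕ l₂ → F)) => (f (0, w)).2) hxy
  obtain ⟨ρ', hinj', hpres'⟩ := transport (l := l₁ ⊕ l₂)
    (fun x y : (l₁ ⊕ l₁ → F) × (l₂ ⊕ l₂ → F) => om l₁ x.1 y.1 + om l₂ x.2 y.2)
    ((LinearEquiv.funCongrLeft F F (Equiv.sumSumSumComm l₁ l₁ l₂ l₂)).trans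
      (LinearEquiv.sumArrowLequivProdArrow (l₁ ⊕ l₁) (l₂ ⊕ l₂) F F))
    (by
      intro u v
      simp only [om]
      rw [Fintype.sum_sum_type]
      rfl)
    σ
    (by
      intro g x y
      show om l₁ (ρ₁ g.1 x.1) (ρ₁ g.1 y.1) + om l₂ (ρ₂ g.2 x.2) (ρ₂ g.2 y.2) = _
      rw [hpres₁, hpres₂])
    hσinj
  obtain ⟨j₁, hj₁⟩ := IsPGroup.iff_card.1 hT₁
  obtain ⟨j₂, hj₂⟩ := IsPGroup.iff_card.1 hT₂
  refine ⟨l₁ ⊕ l₂, inferInstance, inferInstance, T₁ × T₂, inferInstance, inferInstance, ρ',
    ?_, ?_, ?_, SqDer.prod hsq₁ hsq₂, hinj', hpres'⟩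
  · rw [Fintype.card_sum, hcard₁, hcard₂]
  · have hc : Nat.card (T₁ × T₂) = 2 ^ (j₁ + j₂) := by
      rw [Nat.card_prod, hj₁, hj₂, pow_add]
    exact IsPGroup.of_card hc
  · rw [Nat.card_prod]
    refine dvd_trans ?_ (mul_dvd_mul hdvd₁ hdvd₂)
    rw [← pow_add]
    apply pow_dvd_pow
    have h2 : (a + b) * c = a * c + b * c := by ring
    rw [h2]
    omega

/-- The base case gives every degree. -/
theorem hasSyl_all {F : Type u} [Field F] {c : ℕ} (h1 : HasSyl F c 1) :
    ∀ n, 1 ≤ n → HasSyl F c n := by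
  intro n
  induction n using Nat.strong_induction_on with
  | _ n ih =>
    intro hn
    rcases Nat.lt_or_ge n 2 with h2 | h2
    · have h3 : n = 1 := by omega
      rw [h3]
      exact h1
    · obtain ⟨k, hk⟩ : ∃ k, k = Nat.log 2 n := ⟨_, rfl⟩
      have hlo : 2 ^ k ≤ n := by
        rw [hk]
        exact Nat.pow_log_le_self 2 (by omega)
      have hhi : n < 2 ^ (k + 1) := by
        rw [hk]
        exact Nat.lt_pow_succ_log_self (by norm_num) n
      have hk1 : 1 ≤ k := by
        by_contra hcon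
        have h3 : k = 0 := by omega
        rw [h3] at hhi
        norm_num at hhi
        omega
      rcases Nat.eq_or_lt_of_le hlo with heq | hlt
      · obtain ⟨j, rfl⟩ : ∃ j, k = j + 1 := ⟨k - 1, by omega⟩
        have hm : 2 * 2 ^ j = n := by
          rw [← heq, pow_succ]
          ring
        have hj1 : 1 ≤ 2 ^ j := Nat.one_le_two_pow
        rw [← hm]
        apply (ih (2 ^ j) (by omega) hj1).step
        rw [mul_comm 2, ← pow_succ, val_two_pow_factorial, val_two_pow_factorial, pow_succ]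
        omega
      · obtain ⟨r, hr⟩ : ∃ r, n = 2 ^ k + r := ⟨n - 2 ^ k, by omega⟩
        have hr0 : 0 < r := by omega
        have hrk : r < 2 ^ k := by
          rw [pow_succ] at hhi
          omega
        have hk0 : 1 ≤ 2 ^ k := Nat.one_le_two_pow
        rw [hr]
        apply (ih (2 ^ k) (by omega) hk0).prod (ih r (by omega) (by omega))
        rw [val_factorial_add_two_pow k r hrk]

/-- Conversion to an embedding into the symplectic group. -/
theorem HasSyl.exists_hom {F : Type u} [Field F] {c n : ℕ} (h : HasSyl F c n) :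
    ∃ (T : Type u) (_ : Group T) (_ : Finite T)
      (φ : T →* Matrix.symplecticGroup (Fin n) F),
      IsPGroup 2 T ∧ 2 ^ (n * c + padicValNat 2 n.factorial) ∣ Nat.card T ∧ SqDer T ∧
        Function.Injective φ := by
  classical
  obtain ⟨l, _, _, T, _, _, ρ, hcard, hT, hdvd, hsq, hinj, hpres⟩ := h
  have hc : Fintype.card l = Fintype.card (Fin n) := by
    rw [hcard, Fintype.card_fin]
  let e : l ≃ Fin n := Fintype.equivOfCardEq hc
  obtain ⟨ρ', hinj', hpres'⟩ := transport (l := Fin n)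
    (fun x y : (l ⊕ l → F) => om l x y)
    (LinearEquiv.funCongrLeft F F (Equiv.sumCongr e e))
    (by
      intro u v
      simp only [om]
      rw [← Equiv.sum_comp e]
      rfl)
    ρ hpres hinj
  have hmem : ∀ g, (MonoidHomClass.toMonoidHom (LinearMap.toMatrixAlgEquiv' (R := F)
      (n := Fin n ⊕ Fin n))).comp ρ' g ∈ Matrix.symplecticGroup (Fin n) F := by
    intro g
    refine mem_symp_of_pres (Fin n) _ fun u v => ?_
    have h1 : ∀ w, (LinearMap.toMatrix' (ρ' g)).mulVec w = ρ' g w := by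
      intro w
      rw [← Matrix.toLin'_apply, Matrix.toLin'_toMatrix']
    show om (Fin n) ((LinearMap.toMatrix' (ρ' g)).mulVec u)
      ((LinearMap.toMatrix' (ρ' g)).mulVec v) = _
    rw [h1, h1, hpres']
  refine ⟨T, inferInstance, inferInstance,
    ((MonoidHomClass.toMonoidHom (LinearMap.toMatrixAlgEquiv' (R := F)
      (n := Fin n ⊕ Fin n))).comp ρ').codRestrict _ hmem, hT, hdvd, hsq, ?_⟩
  intro a b hab
  apply hinj'
  have h1 := congrArg Subtype.val hab
  exact (LinearMap.toMatrixAlgEquiv' (R := F) (n := Fin n ⊕ Fin n)).injective h1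

end HasSyl

section Sylow

/-- A `2`-group of full `2`-power order embedded in `G` transfers `SqDer` to every Sylow
`2`-subgroup of `G`. -/
theorem sqDer_sylow_of_hom {G : Type*} [Group G] [Finite G] {T : Type*} [Group T] [Finite T]
    (φ : T →* G) (hφ : Function.Injective φ) (hT : IsPGroup 2 T)
    (hdvd : 2 ^ (Nat.card G).factorization 2 ∣ Nat.card T) (hsq : SqDer T) (P : Sylow 2 G) :
    SqDer P := by
  have hfact : Fact (Nat.Prime 2) := ⟨Nat.prime_two⟩
  have hcR : Nat.card φ.range = Nat.card T :=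
    Nat.card_congr (MonoidHom.ofInjective hφ).toEquiv.symm
  obtain ⟨j, hj⟩ := IsPGroup.iff_card.1 hT
  have h1 : Nat.card φ.range ∣ Nat.card G := Subgroup.card_subgroup_dvd_card _
  have h2 : Nat.card T = 2 ^ (Nat.card G).factorization 2 := by
    rw [hj] at hdvd ⊢
    rw [hcR, hj] at h1
    have h3 : (Nat.card G).factorization 2 ≤ j :=
      (Nat.pow_dvd_pow_iff_le_right (by norm_num)).1 hdvd
    have h4 : j ≤ (Nat.card G).factorization 2 :=
      (Nat.Prime.pow_dvd_iff_le_factorization Nat.prime_two Nat.card_pos.ne').1 h1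
    rw [le_antisymm h4 h3]
  obtain ⟨R, hR⟩ : ∃ R : Sylow 2 G, (R : Subgroup G) = φ.range :=
    ⟨Sylow.ofCard φ.range (by rw [hcR, h2]), rfl⟩
  have e1 : P ≃* R := Sylow.equiv P R
  have e2 : T ≃* (R : Subgroup G) := by
    rw [hR]
    exact MonoidHom.ofInjective hφ
  exact SqDer.of_mulEquiv (e2.trans e1.symm) hsq

end Sylow

end Cfsg.Agent.Lib.Helper81.SpSyl
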