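import Mathlib
import Cfsg.Agent.Lib.Helper81.BU0
import Cfsg.Agent.Lib.Helper81.BUNUMA
import Cfsg.Agent.Lib.Helper81.BUNUMB
import Cfsg.Agent.Lib.Helper81.BUNUMC1
import Cfsg.Agent.Lib.Helper81.BUNUMC2
import Cfsg.Agent.Lib.Helper81.BUNUMC3
import Cfsg.Agent.Lib.Helper81.BUNUMD
import Cfsg.Agent.Lib.Helper81.BUCASEA
import Cfsg.Agent.Lib.Helper81.BUOF3
import Cfsg.Agent.Lib.Helper81.BUBLOCK
import Cfsg.Agent.S4503
import Cfsg.Agent.Lib.Helper83.Codeg
import Cfsg.Agent.Lib.Helper4.BTP2
import Cfsg.Agent.Lib.Helper4.CharClosure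
import Cfsg.Agent.Lib.Helper66.BRX4

/-!
# S0998: assembly (simple groups of order `p r q^b`)
-/

set_option autoImplicit false
set_option linter.style.haveILetI false

namespace Cfsg.Agent.Lib.Helper81.BU

open Cfsg
open Cfsg.Agent.Lib.Helper83 (trivIrr)

universe u

/-- The shape of S4504 for the group `G`. -/
def H4504 (G : Type u) [Group G] : Prop :=
  ∀ (p' : ℕ) (_ : p'.Prime), p' ∣ Nat.card G → ¬ p' ^ 2 ∣ Nat.card G →
    (∀ H : Subgroup G, H.Normal → Nat.card H ≠ p') →
    ∀ χ : G → ℂ, IsCharacter G χ → (∀ g : G, χ g = χ 1 → g = 1) →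
      2 * charDegree χ + 1 = p' →
      Nonempty ((G ⧸ Subgroup.center G) ≃*
        Matrix.ProjectiveSpecialLinearGroup (Fin 2) (ZMod p'))

/-- No simple non-cyclic group has order `p r q^b` with `r < p` and `3 ∉ {p, r}`. -/
theorem core_false {G : Type u} [Group G] [Finite G] [IsSimpleGroup G] (hG : ¬ IsCyclic G)
    (p q r b : ℕ) (hp : p.Prime) (hq : q.Prime) (hr : r.Prime) (hpq : p ≠ q) (hpr : p ≠ r)
    (hqr : q ≠ r) (hcard : Nat.card G = p * r * q ^ b) (hlt : r < p) (hp3 : p ≠ 3)
    (hr3 : r ≠ 3) (h4504 : H4504 G) : False := by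
  classical
  haveI : Fact p.Prime := ⟨hp⟩
  have hr2 := hr.two_le
  have hp5 : 5 ≤ p := by
    by_contra hlt5
    have h4 : p = 4 := by omega
    rw [h4] at hp
    exact absurd hp (by norm_num)
  have hrp : r + 2 ≤ p := by
    by_contra hcon
    have hrp1 : r = p - 1 := by omega
    rcases hp.eq_two_or_odd with h2 | h2
    · omega
    · rcases hr.eq_two_or_odd with h3 | h3
      · omega
      · omega
  -- `p` divides `|G|` exactly once
  have hndvd : ¬ p ∣ r * q ^ b := by
    intro h
    rcases (Nat.Prime.dvd_mul hp).mp h with h | h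
    · exact hpr ((Nat.prime_dvd_prime_iff_eq hp hr).mp h)
    · exact hpq ((Nat.prime_dvd_prime_iff_eq hp hq).mp (hp.dvd_of_dvd_pow h))
  have hcard' : Nat.card G = p * (r * q ^ b) := by rw [hcard]; ring
  have hdiv : p ∣ Nat.card G := by rw [hcard']; exact dvd_mul_right _ _
  have hsq : ¬ p ^ 2 ∣ Nat.card G := by
    intro h
    rw [hcard', pow_two] at h
    exact hndvd (Nat.dvd_of_mul_dvd_mul_left hp.pos h)
  obtain ⟨P⟩ : Nonempty (Sylow p G) := inferInstance
  have hP : Nat.card P = p := by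
    rw [P.card_eq_multiplicity, hcard', Nat.factorization_mul hp.ne_zero
      (by
        have := hr.pos
        have := hq.pos
        positivity), Finsupp.add_apply,
      Nat.factorization_eq_zero_of_not_dvd hndvd, hp.factorization_self, add_zero, pow_one]
  obtain ⟨e, t, S, sgn, θ, ε, het, he2, hep, hScard, hS, hθ, hε, hθmod, heq⟩ :=
    block_data hG p P hP
  have hperf : commutator G = ⊤ := Cfsg.Agent.Lib.Helper10.BR.X4.perfect hG
  have hnum : Num p q r b e S (fun χ : IrrCharacter G => charDegree (χ : G → ℂ)) sgn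
      (charDegree (θ : G → ℂ)) ε :=
    { hp := hp
      hq := hq
      hr := hr
      hpq := hpq
      hpr := hpr
      hqr := hqr
      hp5 := hp5
      hrp := hrp
      he2 := he2
      hedvd := Dvd.intro t het
      hep := by rw [← hcard]; exact hep
      hcard := hScard
      hd2 := fun χ hχ => Cfsg.Agent.Lib.Helper10.BT.deg_ge_two hperf χ (hS χ hχ).1
      hddvd := fun χ _ => by
        rw [← hcard]; exact Cfsg.Agent.Lib.Helper83.irr_degree_dvd_card χ
      hsgn := fun χ hχ => (hS χ hχ).2.1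
      hdmod := fun χ hχ => (hS χ hχ).2.2
      hx2 := Cfsg.Agent.Lib.Helper10.BT.deg_ge_two hperf θ hθ
      hxdvd := by rw [← hcard]; exact Cfsg.Agent.Lib.Helper83.irr_degree_dvd_card θ
      hε := hε
      hxmod := hθmod
      heq := heq }
  have hqd := q_dvd_deg hnum
  have hx := x0_eq hnum hqd
  have hep1 : e ≤ p - 1 := Nat.le_of_dvd (by omega) (Dvd.intro t het)
  rcases hε with h1 | h1
  · -- `ε = 1`: `r = e = (p - 1) / 2`, then S4503, S4504
    have hre : r = e := by
      have hm : ((r : ℕ) : ℤ) ≡ ((e : ℕ) : ℤ) [ZMOD p] := by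
        have := hθmod
        rw [hx, h1, one_mul] at this
        exact this
      have hm' : r ≡ e [MOD p] := (Int.natCast_modEq_iff).mp hm
      have h3 := Nat.ModEq.eq_of_lt_of_lt hm' (by omega) (by omega)
      exact h3
    have hnn : ∀ H : Subgroup G, H.Normal → Nat.card H ≠ p := by
      intro H hH hHp
      rcases hH.eq_bot_or_eq_top with hb | ht
      · rw [hb, Subgroup.card_bot] at hHp
        omega
      · rw [ht, Subgroup.card_top] at hHp
        exact hG (isCyclic_of_prime_card hHp)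
    have hfaith : ∀ g : G, (θ : G → ℂ) g = (θ : G → ℂ) 1 → g = 1 := by
      intro g hg
      have hmem : g ∈ Cfsg.Agent.Lib.Helper83.irrKer θ :=
        (Cfsg.Agent.Lib.Helper83.mem_irrKer θ g).mpr hg
      rcases (Cfsg.Agent.Lib.Helper83.irrKer_normal θ).eq_bot_or_eq_top with hb | ht
      · rw [hb, Subgroup.mem_bot] at hmem
        exact hmem
      · exact absurd ((Cfsg.Agent.Lib.Helper83.irrKer_eq_top_iff θ).mp ht) hθ
    have hchar : IsCharacter G (θ : G → ℂ) := Cfsg.Agent.Lib.Helper4.isCharacter_of_irr θ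
    have h4503 := Cfsg.Agent.S4503.result p hp hdiv hsq hnn (θ : G → ℂ) hchar hfaith
    rw [hx] at h4503
    have ht2 : 2 ≤ t := by
      rcases Nat.lt_or_ge t 2 with h | h
      · interval_cases t
        · omega
        · omega
      · exact h
    have hpr2 : 2 * r + 1 = p := by
      have h2 : e * 2 ≤ e * t := Nat.mul_le_mul_left e ht2
      omega
    have hdeg : 2 * charDegree (θ : G → ℂ) + 1 = p := by rw [hx]; exact hpr2
    have hiso := h4504 p hp hdiv hsq hnn (θ : G → ℂ) hchar hfaith hdeg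
    have hord := card_of_iso hG p hp5 hiso
    rw [hcard] at hord
    exact caseA_false p q r b hp hq hr hp5 hr3 hpr2 hord
  · -- `ε = -1`
    obtain ⟨hq2, c, hc1, hec, hrec⟩ := eps_neg_shape hnum hqd hx h1
    rcases Nat.lt_or_ge c 2 with hc | hc
    · have hc' : c = 1 := by omega
      subst hc'
      exact eps_neg_c1 hnum hx h1 hq2 (by simpa using hec) (by simpa using hrec) hr3
    · exact eps_neg_c2 hnum hqd hx h1 hq2 c hc hec hrec hr3

/-- S0998, given the statement of S4504 for `G`. -/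
theorem main {G : Type u} [Group G] [Finite G] [IsSimpleGroup G] (hG : ¬ IsCyclic G)
    (p q r b : ℕ) (hp : p.Prime) (hq : q.Prime) (hr : r.Prime) (hpq : p ≠ q) (hpr : p ≠ r)
    (hqr : q ≠ r) (hcard : Nat.card G = p * r * q ^ b) (h4504 : H4504 G) : Concl G := by
  by_cases hp3 : p = 3
  · subst hp3
    exact of_three hG r q b hr hq (Ne.symm hqr) hcard
  by_cases hr3 : r = 3
  · subst hr3
    exact of_three hG p q b hp hq hpq (by rw [hcard]; ring)
  rcases Nat.lt_or_gt_of_ne hpr with hlt | hlt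
  · exact (core_false hG r q p b hr hq hp (Ne.symm hqr) (Ne.symm hpr) (Ne.symm hpq)
      (by rw [hcard]; ring) hlt hr3 hp3 h4504).elim
  · exact (core_false hG p q r b hp hq hr hpq hpr hqr hcard hlt hp3 hr3 h4504).elim

end Cfsg.Agent.Lib.Helper81.BU
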