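import Mathlib
import Cfsg.Agent.Lib.Helper81.BV0
import Cfsg.Agent.Lib.Helper81.BVI
import Cfsg.Agent.Lib.Helper81.BVBlock
import Cfsg.Agent.Lib.Helper81.BVTA
import Cfsg.Agent.Lib.Helper81.BVTB
import Cfsg.Agent.Lib.Helper81.BVTP
import Cfsg.Agent.Lib.Helper81.BVTN
import Cfsg.Agent.Lib.Helper81.BVTN2
import Cfsg.Agent.Lib.Helper81.BVTE1
import Cfsg.Agent.Lib.Helper81.BUMain
import Cfsg.Agent.Lib.Helper10.BR1
import Cfsg.Agent.Lib.Helper4.Burnside

/-!
# S0997: assembly (Brauer–Tuan: simple groups of order `p q^b g₀`, `g₀ < p - 1`)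
-/

set_option autoImplicit false
set_option linter.style.haveILetI false

namespace Cfsg.Agent.Lib.Helper81.BV

open Cfsg
open Cfsg.Agent.Lib.Helper83 (trivIrr)

universe u

/-- a simple non-cyclic group has trivial centre -/
theorem center_eq_bot {G : Type u} [Group G] [IsSimpleGroup G] (hG : ¬ IsCyclic G) :
    Subgroup.center G = ⊥ := by
  rcases IsSimpleGroup.eq_bot_or_eq_top_of_normal (Subgroup.center G) inferInstance with h1 | h1
  · exact h1
  · exfalso
    apply hG
    have hcomm : ∀ a b : G, a * b = b * a := by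
      intro a b
      have hb : b ∈ Subgroup.center G := by rw [h1]; trivial
      exact (Subgroup.mem_center_iff.mp hb a)
    letI : CommGroup G := { ‹Group G› with mul_comm := hcomm }
    exact IsSimpleGroup.isCyclic

/-- `G ≃* PSL(2, ZMod p)` from `G / Z(G) ≃* PSL(2, ZMod p)`. -/
theorem iso_of_center_iso {G : Type u} [Group G] [IsSimpleGroup G] (hG : ¬ IsCyclic G)
    {H : Type*} [Group H] (h : Nonempty ((G ⧸ Subgroup.center G) ≃* H)) : Nonempty (G ≃* H) := by
  obtain ⟨f⟩ := h
  have hZ := center_eq_bot hG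
  exact ⟨(QuotientGroup.quotientBot (G := G)).symm.trans
    ((QuotientGroup.quotientMulEquivOfEq hZ.symm).trans f)⟩

/-- `2 |G| = p (p - 1) (p + 1)` for `G ≃* PSL(2, F)`, `|F| = p` an odd prime. -/
theorem card_of_iso_field {G : Type u} [Group G] [Finite G] (p : ℕ) (hp : p.Prime) (hp5 : 5 ≤ p)
    {F : Type} [Field F] [Fintype F] (hF : Fintype.card F = p)
    (f : G ≃* Matrix.ProjectiveSpecialLinearGroup (Fin 2) F) :
    2 * Nat.card G = p * (p - 1) * (p + 1) := by
  have hcard : Nat.card G = Nat.card (Matrix.ProjectiveSpecialLinearGroup (Fin 2) F) :=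
    Nat.card_congr f.toEquiv
  have h1 := Cfsg.Agent.Lib.Helper83.BRPerf.card_psl2 (F := F) (q := p) hF
  rw [← hcard] at h1
  have hodd : Nat.gcd 2 (p - 1) = 2 := by
    have h2 : 2 ∣ p - 1 := by
      rcases hp.eq_two_or_odd with h2 | h2
      · omega
      · omega
    exact Nat.gcd_eq_left h2
  rw [hodd] at h1
  obtain ⟨k, rfl⟩ : ∃ k, p = k + 1 := ⟨p - 1, by omega⟩
  have e1 : (k + 1) ^ 2 - 1 = k * (k + 2) := by
    have : (k + 1) ^ 2 = k * (k + 2) + 1 := by ring
    omega
  have e2 : (k + 1) ^ 2 - (k + 1) = k * (k + 1) := by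
    have : (k + 1) ^ 2 = k * (k + 1) + (k + 1) := by ring
    omega
  rw [e1, e2] at h1
  simp only [Nat.add_sub_cancel] at h1 ⊢
  have hk : 0 < k := by omega
  have h3 : k * (2 * Nat.card G) = k * ((k + 1) * k * (k + 1 + 1)) := by
    have : k * (2 * Nat.card G) = 2 * (k * Nat.card G) := by ring
    rw [this, h1]; ring
  exact Nat.eq_of_mul_eq_mul_left hk h3

/-- S0997, given the two structural cases and the statement of S4504 for `G`. -/
theorem main (h1 : B1Stmt.{u}) (h2 : B2Stmt.{u}) {G : Type u} [Group G] [Finite G]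
    [IsSimpleGroup G] (hG : ¬ IsCyclic G) (p q b g₀ : ℕ) (hp : p.Prime) (hq : q.Prime)
    (hpq : p ≠ q) (hcard : Nat.card G = p * q ^ b * g₀) (hg : g₀ < p - 1)
    (h4504 : Cfsg.Agent.Lib.Helper81.BU.H4504 G) : Concl G p := by
  classical
  haveI : Fact p.Prime := ⟨hp⟩
  have hp2 := hp.two_le
  have hcpos : 0 < Nat.card G := Nat.card_pos
  have hg1 : 1 ≤ g₀ := by
    rcases Nat.eq_zero_or_pos g₀ with h0 | h0
    · rw [h0, mul_zero] at hcard
      omega
    · exact h0
  have hp5 : 5 ≤ p := by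
    by_contra hlt
    have hp3 : p = 3 := by
      rcases (by omega : p = 2 ∨ p = 3 ∨ p = 4) with h | h | h
      · omega
      · exact h
      · rw [h] at hp
        exact absurd hp (by norm_num)
    have hg0 : g₀ = 1 := by omega
    have hsolv : IsSolvable G :=
      Cfsg.Agent.Lib.Helper4.burnside 3 q 1 b (by norm_num) hq
        (by rw [hcard, hp3, hg0]; ring)
    apply hG
    have hcomm : ∀ a b : G, a * b = b * a := IsSimpleGroup.comm_iff_isSolvable.mpr hsolv
    letI : CommGroup G := { ‹Group G› with mul_comm := hcomm }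
    exact IsSimpleGroup.isCyclic
  -- `p` divides `|G|` exactly once
  have hndvd : ¬ p ∣ q ^ b * g₀ := by
    intro h
    rcases (Nat.Prime.dvd_mul hp).mp h with h | h
    · exact hpq ((Nat.prime_dvd_prime_iff_eq hp hq).mp (hp.dvd_of_dvd_pow h))
    · have := Nat.le_of_dvd (by omega) h
      omega
  have hcard' : Nat.card G = p * (q ^ b * g₀) := by rw [hcard]; ring
  have hdiv : p ∣ Nat.card G := by rw [hcard']; exact dvd_mul_right _ _
  have hsq : ¬ p ^ 2 ∣ Nat.card G := by
    intro h
    rw [hcard', pow_two] at h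
    exact hndvd (Nat.dvd_of_mul_dvd_mul_left hp.pos h)
  obtain ⟨P⟩ : Nonempty (Sylow p G) := inferInstance
  have hP : Nat.card P = p := by
    rw [P.card_eq_multiplicity, hcard', Nat.factorization_mul hp.ne_zero
      (by
        have := hq.pos
        positivity), Finsupp.add_apply,
      Nat.factorization_eq_zero_of_not_dvd hndvd, hp.factorization_self, add_zero, pow_one]
  obtain ⟨M, hM, e, t, X, Y, εX, ε, hedef, het, he2, hep, hD, htrivX, htrivs⟩ :=
    block_dout hG p P hP
  obtain ⟨S, θ, hθY, hScard, hS, hθ, hθmod, heq, hdegY⟩ :=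
    num_of_dout p M (P : Subgroup G) e t het he2 X Y εX ε hD htrivX htrivs
  have hperf : commutator G = ⊤ := Cfsg.Agent.Lib.Helper10.BR.X4.perfect hG
  have hnum : NumT p q b g₀ e S (fun χ : IrrCharacter G => charDegree (χ : G → ℂ)) εX
      (charDegree (θ : G → ℂ)) ε :=
    { hp := hp
      hq := hq
      hpq := hpq
      hp5 := hp5
      hg1 := hg1
      hg := hg
      he2 := he2
      hedvd := Dvd.intro t het
      hep := by rw [← hcard]; exact hep
      hcard := hScard
      hd2 := fun χ hχ => Cfsg.Agent.Lib.Helper10.BT.deg_ge_two hperf χ (hS χ hχ).1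
      hddvd := fun χ _ => by
        rw [← hcard]; exact Cfsg.Agent.Lib.Helper83.irr_degree_dvd_card χ
      hsgn := fun χ hχ => (hS χ hχ).2.1
      hdmod := fun χ hχ => (hS χ hχ).2.2
      hx2 := Cfsg.Agent.Lib.Helper10.BT.deg_ge_two hperf θ hθ
      hxdvd := by rw [← hcard]; exact Cfsg.Agent.Lib.Helper83.irr_degree_dvd_card θ
      hε := hD.signY
      hxmod := hθmod
      heq := heq }
  have hqd := q_dvd_deg hnum
  have hxd := x0_dvd hnum hqd
  -- conclusion from a `PSL(2, F)`-isomorphism with `|F| = p`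
  have hfirst : ∀ (F : Type) (_ : Field F) (_ : Fintype F), Fintype.card F = p →
      Nonempty (G ≃* Matrix.ProjectiveSpecialLinearGroup (Fin 2) F) → Concl G p := by
    intro F _ _ hF hf
    obtain ⟨f⟩ := hf
    have hord := card_of_iso_field p hp hp5 hF f
    rw [hcard] at hord
    obtain ⟨m, hm⟩ := psl_order_arith p q b g₀ hp hq hp5 hg hord
    exact Or.inl ⟨m, F, inferInstance, inferInstance, hF, hm, ⟨f⟩⟩
  rcases hD.signY with hε1 | hε1
  · -- `ε = 1`: `x₀ = e = (p - 1) / 2`, then S4503, S4504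
    have hx := eps_pos hnum hxd hε1
    have hxle : charDegree (θ : G → ℂ) ≤ g₀ := Nat.le_of_dvd (by omega) hxd
    have hnn : ∀ H : Subgroup G, H.Normal → Nat.card H ≠ p := by
      intro H hH hHp
      rcases hH.eq_bot_or_eq_top with hb | ht
      · rw [hb, Subgroup.card_bot] at hHp
        omega
      · rw [ht, Subgroup.card_top] at hHp
        exact hG (isCyclic_of_prime_card hHp)
    have hfaith : ∀ g : G, (θ : G → ℂ) g = (θ : G → ℂ) 1 → g = 1 := by
      intro g hg
      have hmem : g ∈ Cfsg.Agent.Lib.Helper83.irrKer θ :=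
        (Cfsg.Agent.Lib.Helper83.mem_irrKer θ g).mpr hg
      rcases (Cfsg.Agent.Lib.Helper83.irrKer_normal θ).eq_bot_or_eq_top with hb | ht
      · rw [hb, Subgroup.mem_bot] at hmem
        exact hmem
      · exact absurd ((Cfsg.Agent.Lib.Helper83.irrKer_eq_top_iff θ).mp ht) hθ
    have hchar : IsCharacter G (θ : G → ℂ) := Cfsg.Agent.Lib.Helper4.isCharacter_of_irr θ
    have h4503 := Cfsg.Agent.S4503.result p hp hdiv hsq hnn (θ : G → ℂ) hchar hfaith
    rw [hx] at h4503
    have ht2 : 2 ≤ t := by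
      rcases Nat.lt_or_ge t 2 with h | h
      · interval_cases t
        · omega
        · omega
      · exact h
    have hpe : 2 * e + 1 = p := by
      have h2 : e * 2 ≤ e * t := Nat.mul_le_mul_left e ht2
      omega
    have hdeg : 2 * charDegree (θ : G → ℂ) + 1 = p := by rw [hx]; exact hpe
    have hiso := h4504 p hp hdiv hsq hnn (θ : G → ℂ) hchar hfaith hdeg
    have hiso' := iso_of_center_iso hG hiso
    exact hfirst (ZMod p) inferInstance (ZMod.fintype p) (ZMod.card p) hiso'
  · -- `ε = -1`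
    subst hε1
    obtain ⟨hq2, hx0, hge, c, hc1, hec⟩ := eps_neg hnum hqd hxd rfl
    subst hq2
    have hdegY' : ∀ θ' ∈ Y, charDegree (θ' : G → ℂ) = g₀ := by
      intro θ' hθ'
      rw [hdegY θ' hθ', hx0]
    have hbig : Nat.card G < p ^ 3 := by
      rcases Nat.lt_or_ge c 2 with hc | hc
      · have he2' : e = 2 := by
          have hc' : c = 1 := by omega
          rw [hec, hc']; norm_num
        subst he2'
        have hg0 : g₀ = p - 2 := by omega
        exact h1 hG p b M hM P hP hedef X Y εX hD htrivX htrivs hp5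
          (fun θ' hθ' => by rw [hdegY' θ' hθ', hg0]) (by rw [hcard, hg0])
      · have hpe := eps_neg_c2 hnum hqd rfl rfl hx0 hge c hc hec
        have hg0 : g₀ = e + 1 := by omega
        exact h2 hG p b c e M hM P hP hedef X Y εX hD htrivX htrivs hc hec hpe
          (fun θ' hθ' => by rw [hdegY' θ' hθ', hg0]) (by rw [hcard, hg0])
    rcases Cfsg.Agent.Lib.Helper10.BR.main hG p hp hdiv hbig with
      ⟨F, iF, iF', hF, -, hf⟩ | ⟨m, F, iF, iF', hF, hpm, h3, hf⟩
    · exact hfirst F iF iF' hF hf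
    · exact Or.inr ⟨m, F, iF, iF', hF, hpm, h3, hf⟩

end Cfsg.Agent.Lib.Helper81.BV
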