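import Mathlib

/-!
# The automorphisms of a field with `3 ^ (2 * m + 1)` elements

`charP_three_of_card`, `card_ringAut_three`: such a field has characteristic three and exactly
`2 * m + 1` ring automorphisms.
-/

set_option autoImplicit false

namespace Cfsg.Agent.Lib.Helper81.RO

variable {F : Type*} [Field F] [Fintype F] {m : ℕ}

/-- a field with `3 ^ (2 * m + 1)` elements has characteristic three -/
theorem charP_three_of_card (hF : Fintype.card F = 3 ^ (2 * m + 1)) : CharP F 3 := by
  obtain ⟨p, hp⟩ := CharP.exists F
  have hpp : p.Prime := by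
    rcases CharP.char_is_prime_or_zero F p with h | h
    · exact h
    · exfalso
      subst h
      have : CharZero F := CharP.charP_to_charZero F
      exact not_finite F
  have : Fact p.Prime := ⟨hpp⟩
  obtain ⟨n, hn⟩ := FiniteField.card F p
  rw [hF] at hn
  have h3 : p = 3 := by
    have hd : p ∣ 3 ^ (2 * m + 1) := by
      rw [hn.2]
      exact dvd_pow_self p n.ne_zero
    exact (Nat.prime_dvd_prime_iff_eq hpp Nat.prime_three).1 (hpp.dvd_of_dvd_pow hd)
  rw [← h3]
  exact hp

/-- the number of automorphisms of the field -/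
theorem card_ringAut_three (hF : Fintype.card F = 3 ^ (2 * m + 1)) :
    Nat.card (F ≃+* F) = 2 * m + 1 := by
  have := charP_three_of_card hF
  have : Fact (Nat.Prime 3) := ⟨Nat.prime_three⟩
  let _ : Algebra (ZMod 3) F := ZMod.algebra F 3
  let e : (F ≃ₐ[ZMod 3] F) ≃ (F ≃+* F) :=
    { toFun := fun f => f.toRingEquiv
      invFun := fun f => AlgEquiv.ofRingEquiv (f := f) (fun x =>
        RingHom.congr_fun (Subsingleton.elim ((f : F →+* F).comp (algebraMap (ZMod 3) F))
          (algebraMap (ZMod 3) F)) x)
      left_inv := fun f => by ext x; rfl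
      right_inv := fun f => by ext x; rfl }
  rw [← Nat.card_congr e, IsGalois.card_aut_eq_finrank]
  have h1 := Module.card_eq_pow_finrank (K := ZMod 3) (V := F)
  rw [hF, ZMod.card] at h1
  exact (Nat.pow_right_injective (by norm_num : 2 ≤ 3) h1).symm

end Cfsg.Agent.Lib.Helper81.RO
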