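import Mathlib

/-!
# Outer automorphisms of a group with a Ree-type rank-one presentation (abstract part, base)

`Ok θ T H w`: a finite group `G` with elements `T a b c` (`a b c : F`), `H s` (`s : Fˣ`), `w`
satisfying the relations of the Ree group `²G₂` over the finite field `F` of characteristic three
with the Tits endomorphism `θ` (`θ (θ x) = x ^ 3`), a Bruhat decomposition, the `T a b c` forming a
Sylow 3-subgroup, and field automorphisms.  This file: the structure and the generic rank-one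
lemmas (adapted from `Cfsg.Agent.Lib.Helper27.SzOut`).
-/

set_option autoImplicit false
set_option linter.unusedSectionVars false

namespace Cfsg.Agent.Lib.Helper81.RO

open scoped Pointwise

variable {F : Type*} [Field F] [Finite F] [CharP F 3] {G : Type*} [Group G] [Finite G]

/-- the hypotheses -/
structure Ok (θ : F →+* F) (T : F → F → F → G) (H : Fˣ → G) (w : G) : Prop where
  θθ : ∀ x, θ (θ x) = x ^ 3
  θne : ∃ a, θ a ≠ a
  T_mul : ∀ a b c a' b' c', T a b c * T a' b' c' =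
    T (a + a') (b + b' - a * θ a') (c + c' - a' * b + a * θ a' * a' - a ^ 2 * θ a')
  T_inj : ∀ a b c a' b' c', T a b c = T a' b' c' → a = a' ∧ b = b' ∧ c = c'
  H_mul : ∀ s s', H (s * s') = H s * H s'
  H_inj : ∀ s, H s = 1 → s = 1
  HT : ∀ (s : Fˣ) (a b c : F),
    H s * T a b c = T (s * a) (s * θ s * b) (s ^ 2 * θ s * c) * H s
  w_sq : w * w = 1
  wH : ∀ s, w * H s * w = H s⁻¹
  cases : ∀ g : G, (∃ a b c s, g = T a b c * H s) ∨
    ∃ a b c a' b' c' s, g = T a b c * w * (T a' b' c' * H s)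
  uniq : ∀ a b c a' b' c' s, T a b c * w * (T a' b' c' * H s) = w → a = 0 ∧ b = 0 ∧ c = 0
  syl : ∃ P : Sylow 3 G, ∀ g, g ∈ P ↔ ∃ a b c, g = T a b c
  field : ∀ σ : F ≃+* F, ∃ φ : MulAut G,
    (∀ a b c, φ (T a b c) = T (σ a) (σ b) (σ c)) ∧ φ w = w

variable {θ : F →+* F} {T : F → F → F → G} {H : Fˣ → G} {w : G}

theorem T_congr {T : F → F → F → G} {a b c a' b' c' : F} (ha : a = a') (hb : b = b')
    (hc : c = c') : T a b c = T a' b' c' := by rw [ha, hb, hc]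

theorem three_eq_zero : (3 : F) = 0 := by
  have := CharP.cast_eq_zero F 3
  exact_mod_cast this

namespace Ok

variable (h : Ok θ T H w)
include h

theorem T_zero : T 0 0 0 = 1 := by
  have e := h.T_mul 0 0 0 0 0 0
  have e2 : T ((0 : F) + 0) (0 + 0 - 0 * θ 0) (0 + 0 - 0 * 0 + 0 * θ 0 * 0 - 0 ^ 2 * θ 0)
      = T 0 0 0 := T_congr (by simp) (by simp) (by simp)
  rw [e2] at e
  exact mul_eq_left.1 e

/-- right multiplication by an element with first coordinate zero -/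
theorem T_mul0 (a b c b' c' : F) : T a b c * T 0 b' c' = T a (b + b') (c + c') := by
  rw [h.T_mul]
  exact T_congr (by simp) (by simp) (by simp)

/-- left multiplication by an element with first coordinate zero -/
theorem T0_mul (b c a' b' c' : F) : T 0 b c * T a' b' c' = T a' (b + b') (c + c' - a' * b) := by
  rw [h.T_mul]
  exact T_congr (by simp) (by simp) (by simp)

theorem T00_mul (c c' : F) : T 0 0 c * T 0 0 c' = T 0 0 (c + c') := by
  rw [h.T_mul0]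
  exact T_congr rfl (by simp) rfl

theorem T_split (a b c : F) : T a b c = T a 0 0 * T 0 b 0 * T 0 0 c := by
  rw [h.T_mul0, h.T_mul0]
  exact T_congr rfl (by simp) (by simp)

theorem T_inv (a b c : F) :
    (T a b c)⁻¹ = T (-a) (-b - a * θ a) (-c - a * b + a ^ 2 * θ a) := by
  apply inv_eq_of_mul_eq_one_right
  rw [h.T_mul, ← h.T_zero]
  have h3 : (3 : F) = 0 := three_eq_zero
  refine T_congr (by ring) ?_ ?_
  · rw [map_neg]; ring
  · rw [map_neg]
    linear_combination (a ^ 2 * θ a) * h3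

theorem H_one : H 1 = 1 := by
  have := h.H_mul 1 1
  rw [mul_one] at this
  exact (mul_eq_left.1 this.symm)

theorem H_inv (s : Fˣ) : (H s)⁻¹ = H s⁻¹ := by
  apply inv_eq_of_mul_eq_one_right
  rw [← h.H_mul, mul_inv_cancel, h.H_one]

theorem H_injective : Function.Injective H := by
  intro s s' e
  have : H (s * s'⁻¹) = 1 := by
    rw [h.H_mul, ← h.H_inv, e, mul_inv_cancel]
  have := h.H_inj _ this
  exact mul_inv_eq_one.1 this

theorem θ_inj : Function.Injective θ := θ.injective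

theorem θ_surj : Function.Surjective θ := Finite.injective_iff_surjective.1 θ.injective

/-- the unipotent subgroup -/
def Qs : Subgroup G where
  carrier := {g | ∃ a b c, g = T a b c}
  mul_mem' := by
    rintro x y ⟨a, b, c, rfl⟩ ⟨a', b', c', rfl⟩
    exact ⟨_, _, _, h.T_mul a b c a' b' c'⟩
  one_mem' := ⟨0, 0, 0, h.T_zero.symm⟩
  inv_mem' := by
    rintro x ⟨a, b, c, rfl⟩
    exact ⟨_, _, _, h.T_inv a b c⟩

theorem mem_Qs (g : G) : g ∈ h.Qs ↔ ∃ a b c, g = T a b c := Iff.rfl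

theorem T_mem (a b c : F) : T a b c ∈ h.Qs := ⟨a, b, c, rfl⟩

theorem H_conj_T (s : Fˣ) (a b c : F) :
    H s * T a b c * (H s)⁻¹ = T (s * a) (s * θ s * b) (s ^ 2 * θ s * c) := by
  rw [h.HT, mul_assoc, mul_inv_cancel, mul_one]

/-- the Borel subgroup -/
def Bs : Subgroup G where
  carrier := {g | ∃ a b c s, g = T a b c * H s}
  mul_mem' := by
    rintro x y ⟨a, b, c, s, rfl⟩ ⟨a', b', c', s', rfl⟩
    obtain ⟨a2, b2, c2, e⟩ := h.Qs.mul_mem (h.T_mem a b c)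
      (h.T_mem (s * a') (s * θ s * b') (s ^ 2 * θ s * c'))
    refine ⟨a2, b2, c2, s * s', ?_⟩
    rw [← e, h.H_mul]
    have e1 := h.HT s a' b' c'
    calc T a b c * H s * (T a' b' c' * H s') = T a b c * (H s * T a' b' c') * H s' := by group
      _ = T a b c * T (s * a') (s * θ s * b') (s ^ 2 * θ s * c') * (H s * H s') := by
        rw [e1]; group
  one_mem' := ⟨0, 0, 0, 1, by rw [h.T_zero, h.H_one, mul_one]⟩
  inv_mem' := by
    rintro x ⟨a, b, c, s, rfl⟩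
    obtain ⟨a1, b1, c1, e⟩ := h.Qs.inv_mem (h.T_mem a b c)
    refine ⟨((s⁻¹ : Fˣ) : F) * a1, ((s⁻¹ : Fˣ) : F) * θ ((s⁻¹ : Fˣ) : F) * b1,
      ((s⁻¹ : Fˣ) : F) ^ 2 * θ ((s⁻¹ : Fˣ) : F) * c1, s⁻¹, ?_⟩
    rw [mul_inv_rev, e, h.H_inv, h.HT]

theorem mem_Bs (g : G) : g ∈ h.Bs ↔ ∃ a b c s, g = T a b c * H s := Iff.rfl

theorem Qs_le_Bs : h.Qs ≤ h.Bs := by
  rintro x ⟨a, b, c, rfl⟩
  exact ⟨a, b, c, 1, by rw [h.H_one, mul_one]⟩

theorem H_mem (s : Fˣ) : H s ∈ h.Bs := ⟨0, 0, 0, s, by rw [h.T_zero, one_mul]⟩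

theorem TH_mem (a b c : F) (s : Fˣ) : T a b c * H s ∈ h.Bs := ⟨a, b, c, s, rfl⟩

theorem w_inv : w⁻¹ = w := inv_eq_of_mul_eq_one_right h.w_sq

/-- the Borel subgroup normalises the unipotent subgroup -/
theorem conj_mem_Qs {x u : G} (hx : x ∈ h.Bs) (hu : u ∈ h.Qs) : x * u * x⁻¹ ∈ h.Qs := by
  obtain ⟨a, b, c, s, rfl⟩ := hx
  obtain ⟨a', b', c', rfl⟩ := hu
  have e : T a b c * H s * T a' b' c' * (T a b c * H s)⁻¹
      = T a b c * (H s * T a' b' c' * (H s)⁻¹) * (T a b c)⁻¹ := by group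
  rw [e, h.H_conj_T]
  exact h.Qs.mul_mem (h.Qs.mul_mem (h.T_mem a b c) (h.T_mem _ _ _))
    (h.Qs.inv_mem (h.T_mem a b c))

theorem conj_mem_Qs_iff {x u : G} (hx : x ∈ h.Bs) : x * u * x⁻¹ ∈ h.Qs ↔ u ∈ h.Qs := by
  constructor
  · intro hu
    have := h.conj_mem_Qs (h.Bs.inv_mem hx) hu
    have e : x⁻¹ * (x * u * x⁻¹) * x⁻¹⁻¹ = u := by group
    rwa [e] at this
  · exact h.conj_mem_Qs hx

/-- `w u w ∈ B` forces `u = 1` -/
theorem eq_one_of_wuw {u : G} (hu : u ∈ h.Qs) (hb : w * u * w ∈ h.Bs) : u = 1 := by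
  obtain ⟨a, b, c, rfl⟩ := hu
  obtain ⟨a', b', c', s, hcd⟩ := h.Bs.inv_mem hb
  have e : T a b c * w * (T a' b' c' * H s) = w := by
    rw [← hcd]
    have : T a b c * w * (w * T a b c * w)⁻¹ = w⁻¹ := by group
    rw [this, h.w_inv]
  obtain ⟨rfl, rfl, rfl⟩ := h.uniq a b c a' b' c' s e
  exact h.T_zero

theorem T100_ne_one : T 1 0 0 ≠ 1 := by
  intro e
  rw [← h.T_zero] at e
  exact one_ne_zero (h.T_inj _ _ _ _ _ _ e).1

/-- an element conjugating a non-identity element of `Q` into `Q` lies in `B` -/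
theorem mem_Bs_of_conj {x u : G} (hu : u ∈ h.Qs) (hu1 : u ≠ 1) (hx : x * u * x⁻¹ ∈ h.Qs) :
    x ∈ h.Bs := by
  rcases h.cases x with ⟨a, b, c, s, rfl⟩ | ⟨a, b, c, a', b', c', s, rfl⟩
  · exact ⟨a, b, c, s, rfl⟩
  · exfalso
    have hb : T a' b' c' * H s ∈ h.Bs := ⟨a', b', c', s, rfl⟩
    have hu2 : (T a' b' c' * H s) * u * (T a' b' c' * H s)⁻¹ ∈ h.Qs := h.conj_mem_Qs hb hu
    have e : w * ((T a' b' c' * H s) * u * (T a' b' c' * H s)⁻¹) * w
        = (T a b c)⁻¹ * (T a b c * w * (T a' b' c' * H s) * u *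
            (T a b c * w * (T a' b' c' * H s))⁻¹) * T a b c := by
      have : w * ((T a' b' c' * H s) * u * (T a' b' c' * H s)⁻¹) * w
          = w * ((T a' b' c' * H s) * u * (T a' b' c' * H s)⁻¹) * w⁻¹ := by rw [h.w_inv]
      rw [this]
      group
    have h3 : w * ((T a' b' c' * H s) * u * (T a' b' c' * H s)⁻¹) * w ∈ h.Bs := by
      rw [e]
      exact h.Qs_le_Bs (h.Qs.mul_mem (h.Qs.mul_mem (h.Qs.inv_mem (h.T_mem a b c)) hx)
        (h.T_mem a b c))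
    have h4 := h.eq_one_of_wuw hu2 h3
    apply hu1
    have : u = (T a' b' c' * H s)⁻¹ * ((T a' b' c' * H s) * u * (T a' b' c' * H s)⁻¹) *
        (T a' b' c' * H s) := by group
    rw [this, h4]
    group

/-- `B ∩ wBw` is the torus -/
theorem exists_H_of_mem {x : G} (hx : x ∈ h.Bs) (hx' : w * x * w ∈ h.Bs) : ∃ s, x = H s := by
  obtain ⟨a, b, c, s, rfl⟩ := hx
  have e : w * T a b c * w = w * (T a b c * H s) * w * (H s⁻¹)⁻¹ := by
    rw [← h.wH s]
    have : w * (T a b c * H s) * w * (w * H s * w)⁻¹ = w * T a b c * w⁻¹ := by group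
    rw [this, h.w_inv]
  have h1 : w * T a b c * w ∈ h.Bs := by
    rw [e]
    exact h.Bs.mul_mem hx' (h.Bs.inv_mem (h.H_mem _))
  have h2 := h.eq_one_of_wuw (h.T_mem a b c) h1
  exact ⟨s, by rw [h2, one_mul]⟩

theorem wH' (s : Fˣ) : w * H s * w⁻¹ = H s⁻¹ := by rw [h.w_inv, h.wH]

theorem eq_one_of_wuw' {u : G} (hu : u ∈ h.Qs) (hb : w * u * w⁻¹ ∈ h.Bs) : u = 1 := by
  rw [h.w_inv] at hb
  exact h.eq_one_of_wuw hu hb

theorem exists_H_of_mem' {x : G} (hx : x ∈ h.Bs) (hx' : w * x * w⁻¹ ∈ h.Bs) : ∃ s, x = H s := by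
  rw [h.w_inv] at hx'
  exact h.exists_H_of_mem hx hx'

/-- admissible automorphisms: those preserving `Q` and `w Q w⁻¹` -/
def Adm (α : MulAut G) : Prop :=
  (∀ g, α g ∈ h.Qs ↔ g ∈ h.Qs) ∧ (∀ g, w * α g * w⁻¹ ∈ h.Qs ↔ w * g * w⁻¹ ∈ h.Qs)

theorem adm_mul {α β : MulAut G} (hα : h.Adm α) (hβ : h.Adm β) : h.Adm (α * β) :=
  ⟨fun g => by rw [MulAut.mul_apply, hα.1, hβ.1], fun g => by rw [MulAut.mul_apply, hα.2, hβ.2]⟩

theorem adm_inv {α : MulAut G} (hα : h.Adm α) : h.Adm α⁻¹ :=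
  ⟨fun g => by rw [← hα.1 (α⁻¹ g), MulAut.apply_inv_self],
   fun g => by rw [← hα.2 (α⁻¹ g), MulAut.apply_inv_self]⟩

theorem adm_conj_H (s : Fˣ) : h.Adm (MulAut.conj (H s)) := by
  constructor
  · intro g
    rw [MulAut.conj_apply]
    exact h.conj_mem_Qs_iff (h.H_mem s)
  · intro g
    rw [MulAut.conj_apply]
    have e : w * (H s * g * (H s)⁻¹) * w⁻¹
        = (w * H s * w⁻¹) * (w * g * w⁻¹) * (w * H s * w⁻¹)⁻¹ := by
      group
    rw [e, h.wH']
    exact h.conj_mem_Qs_iff (h.H_mem _)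

theorem adm_Bs {α : MulAut G} (hα : h.Adm α) {x : G} (hx : x ∈ h.Bs) : α x ∈ h.Bs := by
  apply h.mem_Bs_of_conj (u := α (T 1 0 0)) ((hα.1 _).2 (h.T_mem 1 0 0))
  · intro e
    exact h.T100_ne_one ((map_eq_one_iff α α.injective).1 e)
  · rw [← map_inv, ← map_mul, ← map_mul, hα.1]
    exact h.conj_mem_Qs hx (h.T_mem 1 0 0)

theorem adm_Bs' {α : MulAut G} (hα : h.Adm α) {x : G} (hx : w * x * w⁻¹ ∈ h.Bs) :
    w * α x * w⁻¹ ∈ h.Bs := by
  have hu : w * α (w⁻¹ * T 1 0 0 * w) * w⁻¹ ∈ h.Qs := by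
    rw [hα.2]
    have : w * (w⁻¹ * T 1 0 0 * w) * w⁻¹ = T 1 0 0 := by group
    rw [this]
    exact h.T_mem 1 0 0
  apply h.mem_Bs_of_conj hu
  · intro e
    have e1 : α (w⁻¹ * T 1 0 0 * w) = 1 := by
      have : α (w⁻¹ * T 1 0 0 * w) = w⁻¹ * (w * α (w⁻¹ * T 1 0 0 * w) * w⁻¹) * w := by group
      rw [this, e]
      group
    have e2 := (map_eq_one_iff α α.injective).1 e1
    apply h.T100_ne_one
    have : T 1 0 0 = w * (w⁻¹ * T 1 0 0 * w) * w⁻¹ := by group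
    rw [this, e2]
    group
  · have e : w * α x * w⁻¹ * (w * α (w⁻¹ * T 1 0 0 * w) * w⁻¹) * (w * α x * w⁻¹)⁻¹
        = w * α (x * (w⁻¹ * T 1 0 0 * w) * x⁻¹) * w⁻¹ := by
      simp only [map_mul, map_inv]
      group
    rw [e, hα.2]
    have e2 : w * (x * (w⁻¹ * T 1 0 0 * w) * x⁻¹) * w⁻¹
        = (w * x * w⁻¹) * T 1 0 0 * (w * x * w⁻¹)⁻¹ := by
      group
    rw [e2]
    exact h.conj_mem_Qs hx (h.T_mem 1 0 0)

theorem adm_H {α : MulAut G} (hα : h.Adm α) (s : Fˣ) : ∃ s', α (H s) = H s' := by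
  apply h.exists_H_of_mem' (h.adm_Bs hα (h.H_mem s))
  apply h.adm_Bs' hα
  rw [h.wH']
  exact h.H_mem _

omit h in
theorem inv_apply_eq {α : MulAut G} {x y : G} : α⁻¹ x = y ↔ x = α y := by
  constructor
  · intro e
    rw [← e, MulAut.apply_inv_self]
  · intro e
    rw [e, MulAut.inv_apply_self]

omit h in
theorem mem_smul_sylow (α : MulAut G) (P : Sylow 3 G) (x : G) :
    x ∈ (α • P : Sylow 3 G) ↔ α⁻¹ x ∈ P := by
  show x ∈ α • (P : Subgroup G) ↔ _
  rw [Subgroup.mem_pointwise_smul_iff_inv_smul_mem]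
  rfl

end Ok

end Cfsg.Agent.Lib.Helper81.RO
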