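import Mathlib
import Cfsg.Agent.Lib.Helper81.ROBase

set_option autoImplicit false
set_option linter.unusedSectionVars false

namespace Cfsg.Agent.Lib.Helper81.RO

open scoped Pointwise

variable {F : Type*} [Field F] [Finite F] [CharP F 3] {G : Type*} [Group G] [Finite G]
variable {θ : F →+* F} {T : F → F → F → G} {H : Fˣ → G} {w : G}

namespace Ok

/-- piece RO-CARD: the outer automorphism group is in bijection with the automorphisms of the
field.  Adapt `Cfsg.Agent.Lib.Helper27.SzOut.Ok.card_out` (file `Lib/Helper27/SzOut.lean`) verbatim;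
the lemmas it uses are hypotheses here (`hκ1` = `κ_eq_one`, `hκ` = `κ_surj`, `hsemi` =
`adm_semilinear`, `hrigid` = `adm_rigid`, `hex` = `exists_adm`); `T 0 b` there is `T 0 0 c` here,
the weight `θ s * s ^ 2` there is `s ^ 2 * θ s` here (`h.H_conj_T s 0 0 c`). -/
theorem card_out_of (h : Ok θ T H w)
    (hκ1 : ∀ s : F, s ^ 2 * θ s = 1 → s = 1)
    (hκ : ∀ k : F, k ≠ 0 → ∃ s : Fˣ, (s : F) ^ 2 * θ (s : F) = k)
    (hsemi : ∀ α : MulAut G, h.Adm α →
      ∃ (k : F) (σ : F ≃+* F), k ≠ 0 ∧ ∀ c, α (T 0 0 c) = T 0 0 (k * σ c))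
    (hrigid : ∀ α : MulAut G, h.Adm α → (∀ c, α (T 0 0 c) = T 0 0 c) → α = 1)
    (hex : ∀ α : MulAut G, ∃ g : G, h.Adm ((MulAut.conj g)⁻¹ * α)) :
    Nat.card (MulAut G ⧸ (MulAut.conj : G →* MulAut G).range) = Nat.card (F ≃+* F) := by
  choose φ hφT hφw using h.field
  have hφadm : ∀ σ, h.Adm (φ σ) := by
    intro σ
    have h1 : ∀ g, φ σ g ∈ h.Qs ↔ g ∈ h.Qs := by
      intro g
      constructor
      · rintro ⟨a, b, c, e⟩
        have : φ σ g = φ σ (T (σ.symm a) (σ.symm b) (σ.symm c)) := by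
          rw [hφT, e, RingEquiv.apply_symm_apply, RingEquiv.apply_symm_apply,
            RingEquiv.apply_symm_apply]
        rw [(φ σ).injective this]
        exact h.T_mem _ _ _
      · rintro ⟨a, b, c, rfl⟩
        rw [hφT]
        exact h.T_mem _ _ _
    refine ⟨h1, fun g => ?_⟩
    have : w * φ σ g * w⁻¹ = φ σ (w * g * w⁻¹) := by rw [map_mul, map_mul, map_inv, hφw]
    rw [this, h1]
  have hφinv : ∀ (σ : F ≃+* F) (c : F), (φ σ)⁻¹ (T 0 0 c) = T 0 0 (σ.symm c) := by
    intro σ c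
    rw [inv_apply_eq, hφT, map_zero, RingEquiv.apply_symm_apply]
  let Ψ : (F ≃+* F) → MulAut G ⧸ (MulAut.conj : G →* MulAut G).range :=
    fun σ => QuotientGroup.mk (φ σ)
  have hinj : Function.Injective Ψ := by
    intro σ τ e
    have e1 : (φ σ)⁻¹ * φ τ ∈ (MulAut.conj : G →* MulAut G).range := QuotientGroup.eq.1 e
    obtain ⟨g, hg⟩ := e1
    have hadm : h.Adm (MulAut.conj g) := by
      rw [hg]
      exact h.adm_mul (h.adm_inv (hφadm σ)) (hφadm τ)
    have hgB : g ∈ h.Bs := by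
      apply h.mem_Bs_of_conj (h.T_mem 1 0 0) h.T100_ne_one
      have := (hadm.1 (T 1 0 0)).2 (h.T_mem 1 0 0)
      rwa [MulAut.conj_apply] at this
    have hgB' : w * g * w⁻¹ ∈ h.Bs := by
      apply h.mem_Bs_of_conj (h.T_mem 1 0 0) h.T100_ne_one
      have := (hadm.2 (w⁻¹ * T 1 0 0 * w)).2 (by
        have : w * (w⁻¹ * T 1 0 0 * w) * w⁻¹ = T 1 0 0 := by group
        rw [this]
        exact h.T_mem 1 0 0)
      rw [MulAut.conj_apply] at this
      have e : w * g * w⁻¹ * T 1 0 0 * (w * g * w⁻¹)⁻¹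
          = w * (g * (w⁻¹ * T 1 0 0 * w) * g⁻¹) * w⁻¹ := by group
      rw [e]
      exact this
    obtain ⟨s, rfl⟩ := h.exists_H_of_mem' hgB hgB'
    have e3 : ∀ c, σ.symm (τ c) = (s : F) ^ 2 * θ (s : F) * c := by
      intro c
      have e2 : ((φ σ)⁻¹ * φ τ) (T 0 0 c) = T 0 0 (σ.symm (τ c)) := by
        rw [MulAut.mul_apply, hφT, map_zero, hφinv]
      rw [← hg, MulAut.conj_apply, h.H_conj_T] at e2
      exact ((h.T_inj _ _ _ _ _ _ e2).2.2).symm
    have e4 : (s : F) ^ 2 * θ (s : F) = 1 := by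
      have := e3 1
      rw [map_one, map_one, mul_one] at this
      exact this.symm
    apply RingEquiv.ext
    intro b
    have := congrArg σ (e3 b)
    rw [e4, one_mul, RingEquiv.apply_symm_apply] at this
    exact this.symm
  have hsurj : Function.Surjective Ψ := by
    intro x
    obtain ⟨α, rfl⟩ := QuotientGroup.mk_surjective x
    obtain ⟨g, hg⟩ := hex α
    obtain ⟨c, σ, hc, hcσ⟩ := hsemi _ hg
    have hc' : σ.symm c ≠ 0 := fun e => hc (by
      have := congrArg σ e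
      rwa [RingEquiv.apply_symm_apply, map_zero] at this)
    obtain ⟨s, hs⟩ := hκ _ hc'
    refine ⟨σ, ?_⟩
    have hρ : (φ σ * MulAut.conj (H s))⁻¹ * ((MulAut.conj g)⁻¹ * α) = 1 := by
      apply hrigid _ (h.adm_mul (h.adm_inv (h.adm_mul (hφadm σ) (h.adm_conj_H s))) hg)
      intro b
      rw [MulAut.mul_apply, hcσ, inv_apply_eq, MulAut.mul_apply,
        MulAut.conj_apply, h.H_conj_T, mul_zero, mul_zero, hφT, map_zero, map_mul, hs,
        RingEquiv.apply_symm_apply]
    have hα : α = MulAut.conj g * (φ σ * MulAut.conj (H s)) := by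
      have := inv_mul_eq_one.1 hρ
      rw [this]
      group
    show QuotientGroup.mk (φ σ) = QuotientGroup.mk α
    rw [QuotientGroup.eq, hα]
    have e : (φ σ)⁻¹ * (MulAut.conj g * (φ σ * MulAut.conj (H s)))
        = MulAut.conj ((φ σ)⁻¹ g) * MulAut.conj (H s) := by
      ext y
      simp only [MulAut.mul_apply, MulAut.conj_apply, map_mul, map_inv, MulAut.inv_apply_self]
    rw [e]
    exact Subgroup.mul_mem _ ⟨_, rfl⟩ ⟨_, rfl⟩
  exact (Nat.card_congr (Equiv.ofBijective Ψ ⟨hinj, hsurj⟩)).symm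

end Ok

end Cfsg.Agent.Lib.Helper81.RO
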