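import Mathlib
import Cfsg.Agent.Lib.Helper81.ROBase

set_option autoImplicit false
set_option linter.unusedSectionVars false

namespace Cfsg.Agent.Lib.Helper81.RO

open scoped Pointwise

variable {F : Type*} [Field F] [Finite F] [CharP F 3] {G : Type*} [Group G] [Finite G]
variable {θ : F →+* F} {T : F → F → F → G} {H : Fˣ → G} {w : G}

namespace Ok

/-- piece RO-CENTER (1/2): the centre of `Q` is `{T 0 0 c}`.
Proof: compare (via `h.T_mul`, `h.T_inj`) the second coordinates of `T a b c * T a' 0 0` and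
`T a' 0 0 * T a b c`: `a * θ a' = a' * θ a` for all `a'`.  With `a' = 1`: `θ a = a`.  If `a ≠ 0`
then `θ a' = a'` for all `a'` (cancel `a`), contradicting `h.θne`.  So `a = 0`; then the third
coordinates of `T 0 b c * T 1 0 0` (`h.T0_mul`) and `T 1 0 0 * T 0 b c` (`h.T_mul0`) give
`b = 0`. -/
theorem T_central (h : Ok θ T H w) (a b c : F)
    (hc : ∀ a' b' c', T a b c * T a' b' c' = T a' b' c' * T a b c) : a = 0 ∧ b = 0 := by
  have key : ∀ a' : F, a * θ a' = a' * θ a := by
    intro a'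
    have e := hc a' 0 0
    rw [h.T_mul, h.T_mul] at e
    have e2 := (h.T_inj _ _ _ _ _ _ e).2.1
    linear_combination -e2
  have hθa : θ a = a := by
    have e := key 1
    rw [map_one, mul_one, one_mul] at e
    exact e.symm
  have ha : a = 0 := by
    by_contra ha
    obtain ⟨x, hx⟩ := h.θne
    apply hx
    have e := key x
    rw [hθa] at e
    have e' : a * θ x = a * x := by rw [e, mul_comm]
    exact mul_left_cancel₀ ha e'
  refine ⟨ha, ?_⟩
  subst ha
  have e := hc 1 0 0
  rw [h.T0_mul, h.T_mul0] at e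
  have e3 := (h.T_inj _ _ _ _ _ _ e).2.2
  linear_combination -e3

/-- piece RO-CENTER (2/2): an admissible automorphism preserves the centre of `Q`.
Proof: `α (T 0 0 c) = T a' b' c'` by `hα.1`; it commutes with every `T x y z`
(`T x y z = α (T x₁ y₁ z₁)` for some `x₁ y₁ z₁` by `hα.1` applied to `α⁻¹`/surjectivity of `α`, and
`T 0 0 c` is central by `h.T0_mul`/`h.T_mul0`), so `T_central` gives `a' = 0`, `b' = 0`. -/
theorem adm_T00 (h : Ok θ T H w) {α : MulAut G} (hα : h.Adm α) (c : F) :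
    ∃ c', α (T 0 0 c) = T 0 0 c' := by
  obtain ⟨a', b', c', e⟩ := (h.mem_Qs _).1 ((hα.1 (T 0 0 c)).2 (h.T_mem 0 0 c))
  have hcen : ∀ x y z : F, T 0 0 c * T x y z = T x y z * T 0 0 c := by
    intro x y z
    rw [h.T0_mul, h.T_mul0]
    exact T_congr rfl (by ring) (by ring)
  have hcomm : ∀ x y z : F, T a' b' c' * T x y z = T x y z * T a' b' c' := by
    intro x y z
    obtain ⟨x₁, y₁, z₁, e1⟩ :=
      (h.mem_Qs _).1 (((h.adm_inv hα).1 (T x y z)).2 (h.T_mem x y z))
    have e2 : T x y z = α (T x₁ y₁ z₁) := Ok.inv_apply_eq.1 e1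
    rw [e2, ← e, ← map_mul, ← map_mul, hcen]
  obtain ⟨ha, hb⟩ := h.T_central a' b' c' hcomm
  exact ⟨c', by rw [e, ha, hb]⟩

end Ok

end Cfsg.Agent.Lib.Helper81.RO
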