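import Mathlib
import Cfsg.Agent.Lib.Helper81.ROBase

set_option autoImplicit false
set_option linter.unusedSectionVars false

namespace Cfsg.Agent.Lib.Helper81.RO

open scoped Pointwise

variable {F : Type*} [Field F] [Finite F] [CharP F 3] {G : Type*} [Group G] [Finite G]
variable {θ : F →+* F} {T : F → F → F → G} {H : Fˣ → G} {w : G}

namespace Ok

/-- piece RO-CUBE (1/2): cubes in `Q`.  Proof: `h.T_mul` twice, then `T_congr` and
`linear_combination` with `three_eq_zero : (3 : F) = 0`. -/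
theorem T_cube (h : Ok θ T H w) (a b c : F) :
    T a b c * T a b c * T a b c = T 0 0 (-(a ^ 2 * θ a)) := by
  have h3 : (3 : F) = 0 := three_eq_zero
  rw [h.T_mul, h.T_mul]
  refine T_congr ?_ ?_ ?_
  · linear_combination a * h3
  · linear_combination (b - a * θ a) * h3
  · linear_combination (c - a * b) * h3

/-- piece RO-CUBE (2/2): an admissible automorphism preserves the elements of order dividing 3
of `Q`, which are the `T 0 b c`.
Proof: `α (T 0 b c) = T a' b' c'` (`hα.1`); `(T 0 b c)^3 = 1` (`T_cube`, `h.T_zero`), so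
`T 0 0 (-(a' ^ 2 * θ a')) = 1 = T 0 0 0`, `h.T_inj` gives `a' ^ 2 * θ a' = 0`, so `a' = 0`
(`map_eq_zero`). -/
theorem adm_T0 (h : Ok θ T H w) {α : MulAut G} (hα : h.Adm α) (b c : F) :
    ∃ b' c', α (T 0 b c) = T 0 b' c' := by
  obtain ⟨a', b', c', e⟩ := (hα.1 (T 0 b c)).mpr (h.T_mem 0 b c)
  have hcube : T (0 : F) b c * T 0 b c * T 0 b c = 1 := by
    rw [h.T_cube, ← h.T_zero]
    exact T_congr rfl rfl (by rw [map_zero]; ring)
  have h1 : T a' b' c' * T a' b' c' * T a' b' c' = 1 := by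
    rw [← e, ← map_mul, ← map_mul, hcube, map_one]
  rw [h.T_cube, ← h.T_zero] at h1
  have h2 := (h.T_inj _ _ _ _ _ _ h1).2.2
  have h3 : a' ^ 2 * θ a' = 0 := neg_eq_zero.mp h2
  have ha : a' = 0 := by
    rcases mul_eq_zero.mp h3 with h4 | h4
    · exact pow_eq_zero_iff (two_ne_zero) |>.mp h4
    · exact (map_eq_zero θ).mp h4
  refine ⟨b', c', ?_⟩
  rw [e, ha]

end Ok

end Cfsg.Agent.Lib.Helper81.RO
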