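import Mathlib

/-!
# Entrywise field automorphisms of a matrix group

A subgroup of `GL n K` stable under the entrywise action of the ring automorphisms of `K`
inherits, for each such automorphism `τ`, a group automorphism acting entrywise.
-/

set_option autoImplicit false

namespace Cfsg.Agent.Lib.Helper81.RO

theorem exists_entrywise_aut {n : Type*} [Fintype n] [DecidableEq n] {K : Type*} [Field K]
    (G1 : Subgroup (GL n K))
    (hmap : ∀ τ : K ≃+* K, ∀ g ∈ G1, Matrix.GeneralLinearGroup.map (τ : K →+* K) g ∈ G1)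
    (τ : K ≃+* K) :
    ∃ φ : MulAut ↥G1, ∀ g : ↥G1,
      ((φ g : ↥G1) : GL n K) = Matrix.GeneralLinearGroup.map (τ : K →+* K) (g : GL n K) := by
  let f : (K ≃+* K) → (↥G1 →* ↥G1) := fun σ =>
    ((Matrix.GeneralLinearGroup.map (σ : K →+* K)).comp G1.subtype).codRestrict G1
      (fun g => hmap σ g.1 g.2)
  have hval : ∀ (σ : K ≃+* K) (g : ↥G1),
      ((f σ g : ↥G1) : GL n K) = Matrix.GeneralLinearGroup.map (σ : K →+* K) (g : GL n K) :=
    fun σ g => rfl
  have hcomp : ∀ (σ σ' : K ≃+* K), (∀ x, σ (σ' x) = x) → ∀ g : ↥G1, f σ (f σ' g) = g := by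
    intro σ σ' h g
    apply Subtype.ext
    rw [hval, hval]
    apply Units.ext
    ext i j
    show σ (σ' ((g : GL n K).val i j)) = (g : GL n K).val i j
    exact h _
  exact ⟨{ toFun := f τ
           invFun := f τ.symm
           left_inv := hcomp τ.symm τ (fun x => τ.symm_apply_apply x)
           right_inv := hcomp τ τ.symm (fun x => τ.apply_symm_apply x)
           map_mul' := map_mul (f τ) }, fun g => rfl⟩

end Cfsg.Agent.Lib.Helper81.RO
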