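import Mathlib
import Cfsg.Agent.Lib.Helper81.ROBase

set_option autoImplicit false
set_option linter.unusedSectionVars false

namespace Cfsg.Agent.Lib.Helper81.RO

open scoped Pointwise

variable {F : Type*} [Field F] [Finite F] [CharP F 3] {G : Type*} [Group G] [Finite G]
variable {θ : F →+* F} {T : F → F → F → G} {H : Fˣ → G} {w : G}

namespace Ok

/-- piece RO-EXADM: every automorphism is admissible up to an inner automorphism.
Adapt `Cfsg.Agent.Lib.Helper27.SzOut.Ok.exists_adm` (file `Lib/Helper27/SzOut.lean`) verbatim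
(`Sylow 3` instead of `Sylow 2`; `h.syl`, `mem_smul_sylow`, `h.cases`, `h.conj_mem_Qs_iff`,
`h.eq_one_of_wuw'`, `h.T100_ne_one` are in `ROBase`). -/
theorem exists_adm (h : Ok θ T H w) (α : MulAut G) :
    ∃ g : G, h.Adm ((MulAut.conj g)⁻¹ * α) := by
  obtain ⟨P, hP⟩ := h.syl
  have hPQ : ∀ g, g ∈ P ↔ g ∈ h.Qs := hP
  obtain ⟨g₁, hg₁⟩ := MulAction.exists_smul_eq G P (α • P)
  have E1 : ∀ y, g₁⁻¹ * α y * g₁ ∈ h.Qs ↔ y ∈ h.Qs := by
    intro y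
    have h1 : α y ∈ (g₁ • P : Sylow 3 G) ↔ α y ∈ (α • P : Sylow 3 G) := by rw [hg₁]
    rw [Sylow.smul_def, mem_smul_sylow, mem_smul_sylow, MulAut.conj_inv_apply,
      MulAut.inv_apply_self, hPQ, hPQ] at h1
    exact h1
  have hα₁y : ∀ y, ((MulAut.conj g₁)⁻¹ * α) y = g₁⁻¹ * α y * g₁ := fun y => rfl
  obtain ⟨g₂, hg₂⟩ := MulAction.exists_smul_eq G P (((MulAut.conj g₁)⁻¹ * α) • (w • P))
  have E2 : ∀ y, g₂⁻¹ * (g₁⁻¹ * α y * g₁) * g₂ ∈ h.Qs ↔ w⁻¹ * y * w ∈ h.Qs := by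
    intro y
    have h1 : ((MulAut.conj g₁)⁻¹ * α) y ∈ (g₂ • P : Sylow 3 G) ↔
        ((MulAut.conj g₁)⁻¹ * α) y ∈ ((((MulAut.conj g₁)⁻¹ * α) • (w • P) : Sylow 3 G)) := by
      rw [hg₂]
    rw [Sylow.smul_def, mem_smul_sylow, mem_smul_sylow, MulAut.conj_inv_apply,
      MulAut.inv_apply_self, Sylow.smul_def, mem_smul_sylow, MulAut.conj_inv_apply, hPQ, hPQ,
      hα₁y] at h1
    exact h1
  rcases h.cases g₂ with ⟨a, b, c, s, hg⟩ | ⟨a, b, c, a', b', c', s, hg⟩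
  · exfalso
    have hB : g₂ ∈ h.Bs := ⟨a, b, c, s, hg⟩
    have h3 : ∀ y, y ∈ h.Qs ↔ w⁻¹ * y * w ∈ h.Qs := by
      intro y
      rw [← E2 y, ← E1 y]
      have := h.conj_mem_Qs_iff (h.Bs.inv_mem hB) (u := g₁⁻¹ * α y * g₁)
      rw [inv_inv] at this
      exact this.symm
    have h4 := (h3 (w * T 1 0 0 * w⁻¹)).2 (by
      have : w⁻¹ * (w * T 1 0 0 * w⁻¹) * w = T 1 0 0 := by group
      rw [this]
      exact h.T_mem 1 0 0)
    exact h.T100_ne_one (h.eq_one_of_wuw' (h.T_mem 1 0 0) (h.Qs_le_Bs h4))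
  · refine ⟨g₁ * T a b c, ?_⟩
    have hα₂ : ∀ y, ((MulAut.conj (g₁ * T a b c))⁻¹ * α) y
        = (T a b c)⁻¹ * (g₁⁻¹ * α y * g₁) * T a b c := by
      intro y
      rw [MulAut.mul_apply, MulAut.conj_inv_apply]
      group
    have hTB : (T a b c)⁻¹ ∈ h.Bs := h.Bs.inv_mem (h.Qs_le_Bs (h.T_mem a b c))
    constructor
    · intro y
      rw [hα₂]
      have := h.conj_mem_Qs_iff hTB (u := g₁⁻¹ * α y * g₁)
      rw [inv_inv] at this
      rw [this, E1]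
    · intro y
      rw [hα₂]
      have e2 := E2 y
      rw [hg] at e2
      have e3 : (T a b c * w * (T a' b' c' * H s))⁻¹ * (g₁⁻¹ * α y * g₁)
            * (T a b c * w * (T a' b' c' * H s))
          = (T a' b' c' * H s)⁻¹ * (w⁻¹ * ((T a b c)⁻¹ * (g₁⁻¹ * α y * g₁) * T a b c) * w)
            * (T a' b' c' * H s)⁻¹⁻¹ := by group
      rw [e3, h.conj_mem_Qs_iff (h.Bs.inv_mem ⟨a', b', c', s, rfl⟩)] at e2
      have hwi := h.w_inv
      have hc : ∀ z : G, w⁻¹ * z * w = w * z * w⁻¹ := fun z => by rw [hwi]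
      rw [hc, hc] at e2
      exact e2

end Ok

end Cfsg.Agent.Lib.Helper81.RO
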