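import Mathlib
import Cfsg.Agent.Lib.Helper81.ROBase

set_option autoImplicit false
set_option linter.unusedSectionVars false

namespace Cfsg.Agent.Lib.Helper81.RO

open scoped Pointwise

variable {F : Type*} [Field F] [Finite F] [CharP F 3] {G : Type*} [Group G] [Finite G]
variable {θ : F →+* F} {T : F → F → F → G} {H : Fˣ → G} {w : G}

namespace Ok

/-- piece RO-FIXH: an admissible automorphism fixing the centre of `Q` pointwise fixes the torus.
Adapt `Cfsg.Agent.Lib.Helper27.SzOut.Ok.adm_fix_H`: `α (H s) = H s'` (`h.adm_H`); apply `α` to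
`h.HT s 0 0 1`; `h.T_inj` gives `s' ^ 2 * θ s' = s ^ 2 * θ s`, so `hκ1 (s' / s)` gives `s' = s`. -/
theorem adm_fix_H (h : Ok θ T H w) (hκ1 : ∀ s : F, s ^ 2 * θ s = 1 → s = 1)
    {α : MulAut G} (hα : h.Adm α) (h0 : ∀ c, α (T 0 0 c) = T 0 0 c) (s : Fˣ) :
    α (H s) = H s := by
  obtain ⟨s', hs'⟩ := h.adm_H hα s
  have key := congrArg α (h.HT s 0 0 1)
  have e0 : T ((s : F) * 0) ((s : F) * θ s * 0) ((s : F) ^ 2 * θ s * 1) =
      T 0 0 ((s : F) ^ 2 * θ s) := T_congr (by ring) (by ring) (by ring)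
  rw [e0, map_mul, map_mul, hs', h0, h0, h.HT] at key
  have e := (h.T_inj _ _ _ _ _ _ (mul_right_cancel key)).2.2
  have hs0 : (s : F) ≠ 0 := s.ne_zero
  have hθs0 : θ (s : F) ≠ 0 := fun e => hs0 ((map_eq_zero θ).1 e)
  have e2 : ((s' : F) / (s : F)) ^ 2 * θ ((s' : F) / (s : F)) = 1 := by
    rw [map_div₀]
    field_simp
    linear_combination e
  have e3 := hκ1 _ e2
  have e4 : s' = s := by
    apply Units.ext
    field_simp at e3
    exact e3
  rw [hs', e4]

end Ok

end Cfsg.Agent.Lib.Helper81.RO
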