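import Mathlib
import Cfsg.Agent.Lib.Helper81.ROBase

set_option autoImplicit false
set_option linter.unusedSectionVars false

namespace Cfsg.Agent.Lib.Helper81.RO

open scoped Pointwise

variable {F : Type*} [Field F] [Finite F] [CharP F 3] {G : Type*} [Group G] [Finite G]
variable {θ : F →+* F} {T : F → F → F → G} {H : Fˣ → G} {w : G}

namespace Ok

/-- piece RO-FIXTA: level 2 of the rigidity step.
Proof: by `h0T`, `α (T 0 b 0) = T 0 (β b) (ε b)` (choose).  `β`, `ε` are additive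
(`h.T_mul0` / `h.T0_mul`: `T 0 b 0 * T 0 b' 0 = T 0 (b + b') 0`, apply `α`, `h.T_inj`).
Let `s = -1 : Fˣ` (`θ (-1) = -1`): `h.HT (-1) 0 b 0` reads
`H (-1) * T 0 b 0 = T 0 b 0 * H (-1)` (weights `(-1) * θ (-1) = 1`, `(-1)^2 * θ (-1) = -1`);
apply `α` (`hH`), then `h.HT (-1) 0 (β b) (ε b)` and `h.T_inj`: `ε b = - ε b`, so `2 * ε b = 0`,
`ε b = 0` (`2 ≠ 0` in characteristic 3: `(2 : F) = -1` from `three_eq_zero`). -/
theorem adm_fix_TA (h : Ok θ T H w)
    (h0T : ∀ α : MulAut G, h.Adm α → ∀ b c : F, ∃ b' c', α (T 0 b c) = T 0 b' c')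
    {α : MulAut G} (hα : h.Adm α) (h0 : ∀ c, α (T 0 0 c) = T 0 0 c)
    (hH : ∀ s, α (H s) = H s) :
    ∃ β : F → F, (∀ b b', β (b + b') = β b + β b') ∧ ∀ b, α (T 0 b 0) = T 0 (β b) 0 := by
  have h3 : (3 : F) = 0 := three_eq_zero
  choose β ε hβε using fun b => h0T α hα b 0
  have hθ : θ (-1) = -1 := by rw [map_neg, map_one]
  have hε : ∀ b, ε b = 0 := by
    intro b
    have e1 := h.HT (-1) 0 b 0
    have e1' : H (-1) * T 0 b 0 = T 0 b 0 * H (-1) := by
      rw [e1]
      congr 1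
      refine T_congr ?_ ?_ ?_
      · simp
      · rw [Units.val_neg, Units.val_one, hθ]; ring
      · simp
    have e2 := congrArg α e1'
    rw [map_mul, map_mul, hH, hβε, h.HT] at e2
    have e3 := mul_right_cancel e2
    obtain ⟨-, -, e4⟩ := h.T_inj _ _ _ _ _ _ e3
    rw [Units.val_neg, Units.val_one, hθ] at e4
    have e5 : (2 : F) * ε b = 0 := by linear_combination (-1 : F) * e4
    have h2 : (2 : F) ≠ 0 := by
      intro h2
      have h1 : (1 : F) = 0 := by linear_combination h3 - h2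
      exact one_ne_zero h1
    rcases mul_eq_zero.mp e5 with h' | h'
    · exact absurd h' h2
    · exact h'
  refine ⟨β, ?_, ?_⟩
  · intro b b'
    have e1 : T 0 (b + b') 0 = T 0 b 0 * T 0 b' 0 := by
      rw [h.T_mul0]
      exact T_congr rfl rfl (by simp)
    have e2 := congrArg α e1
    rw [map_mul, hβε, hβε, hβε, h.T_mul0] at e2
    exact (h.T_inj _ _ _ _ _ _ e2).2.1
  · intro b
    rw [hβε, hε]

end Ok

end Cfsg.Agent.Lib.Helper81.RO
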