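import Mathlib
import Cfsg.Agent.Lib.Helper81.ROBase

set_option autoImplicit false
set_option linter.unusedSectionVars false

namespace Cfsg.Agent.Lib.Helper81.RO

open scoped Pointwise

variable {F : Type*} [Field F] [Finite F] [CharP F 3] {G : Type*} [Group G] [Finite G]
variable {θ : F →+* F} {T : F → F → F → G} {H : Fˣ → G} {w : G}

namespace Ok

/-- piece RO-FIXTB: levels 1 and 2 of the rigidity step: an admissible automorphism fixing the
centre of `Q` and the torus pointwise, and acting on the `T 0 b 0` through an additive map `β`,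
fixes the `T a 0 0` and the `T 0 b 0`. -/
theorem adm_fix_TB (h : Ok θ T H w) (hκ1 : ∀ s : F, s ^ 2 * θ s = 1 → s = 1)
    {α : MulAut G} (hα : h.Adm α) (h0 : ∀ c, α (T 0 0 c) = T 0 0 c)
    (hH : ∀ s, α (H s) = H s)
    (β : F → F) (hβadd : ∀ b b', β (b + b') = β b + β b')
    (hβ : ∀ b, α (T 0 b 0) = T 0 (β b) 0) :
    (∀ a, α (T a 0 0) = T a 0 0) ∧ ∀ b, α (T 0 b 0) = T 0 b 0 := by
  have h3 : (3 : F) = 0 := three_eq_zero
  have hQ : ∀ a, ∃ a' b' c', α (T a 0 0) = T a' b' c' := fun a => (hα.1 _).2 (h.T_mem a 0 0)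
  choose γ δ η hγ using hQ
  -- values at 0
  have h00 : γ 0 = 0 ∧ δ 0 = 0 ∧ η 0 = 0 := by
    have := hγ 0
    rw [h.T_zero, map_one, ← h.T_zero] at this
    obtain ⟨e1, e2, e3⟩ := h.T_inj _ _ _ _ _ _ this
    exact ⟨e1.symm, e2.symm, e3.symm⟩
  -- torus equivariance
  have hEq : ∀ (s : Fˣ) (a : F), γ (s * a) = s * γ a ∧ δ (s * a) = s * θ s * δ a ∧
      η (s * a) = (s : F) ^ 2 * θ s * η a := by
    intro s a
    have e := congrArg α (h.HT s a 0 0)
    rw [map_mul, map_mul, hH, mul_zero, mul_zero, hγ, hγ, h.HT] at e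
    obtain ⟨e1, e2, e3⟩ := h.T_inj _ _ _ _ _ _ (mul_right_cancel e)
    exact ⟨e1.symm, e2.symm, e3.symm⟩
  have hβ0 : β 0 = 0 := by
    have := hβadd 0 0
    rw [add_zero] at this
    exact left_eq_add.1 this
  have hβneg : ∀ b, β (-b) = -β b := by
    intro b
    have := hβadd (-b) b
    rw [neg_add_cancel, hβ0] at this
    linear_combination -this
  -- torus equivariance of β
  have hβEq : ∀ (s : Fˣ) (b : F), β (s * θ s * b) = s * θ s * β b := by
    intro s b
    have e := congrArg α (h.HT s 0 b 0)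
    rw [map_mul, map_mul, hH, mul_zero, mul_zero, hβ, hβ, h.HT, mul_zero, mul_zero] at e
    exact ((h.T_inj _ _ _ _ _ _ (mul_right_cancel e)).2.1).symm
  -- product relation
  have hProd : ∀ a a' : F,
      γ a + γ a' = γ (a + a') ∧
      δ a + δ a' - γ a * θ (γ a') = δ (a + a') + β (-(a * θ a')) ∧
      η a + η a' - γ a' * δ a + γ a * θ (γ a') * γ a' - γ a ^ 2 * θ (γ a')
        = η (a + a') + (a * θ a' * a' - a ^ 2 * θ a') := by
    intro a a'
    have e0 : T a 0 0 * T a' 0 0
        = T (a + a') 0 0 * T 0 (-(a * θ a')) 0 * T 0 0 (a * θ a' * a' - a ^ 2 * θ a') := by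
      rw [h.T_mul a 0 0 a' 0 0, h.T_mul0 (a + a') 0 0 (-(a * θ a')) 0, h.T_mul0]
      exact T_congr (by ring) (by ring) (by ring)
    have e := congrArg α e0
    rw [map_mul, map_mul, map_mul, hγ, hγ, hγ, hβ, h0,
      h.T_mul (γ a) (δ a) (η a) (γ a') (δ a') (η a'),
      h.T_mul0 (γ (a + a')) (δ (a + a')) (η (a + a')) (β (-(a * θ a'))) 0, h.T_mul0] at e
    obtain ⟨e1, e2, e3⟩ := h.T_inj _ _ _ _ _ _ e
    refine ⟨e1, ?_, ?_⟩
    · linear_combination e2
    · linear_combination e3
  -- γ, δ, η through their values at 1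
  have hγlin : ∀ a, γ a = a * γ 1 := by
    intro a
    by_cases ha : a = 0
    · rw [ha, h00.1, zero_mul]
    · have := (hEq (Units.mk0 a ha) 1).1
      rw [Units.val_mk0, mul_one] at this
      exact this
  have hδform : ∀ a, δ a = a * θ a * δ 1 := by
    intro a
    by_cases ha : a = 0
    · rw [ha, h00.2.1, zero_mul, zero_mul]
    · have := (hEq (Units.mk0 a ha) 1).2.1
      rw [Units.val_mk0, mul_one] at this
      exact this
  have hηform : ∀ a, η a = a ^ 2 * θ a * η 1 := by
    intro a
    by_cases ha : a = 0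
    · rw [ha, h00.2.2, map_zero, mul_zero, zero_mul]
    · have := (hEq (Units.mk0 a ha) 1).2.2
      rw [Units.val_mk0, mul_one] at this
      exact this
  -- β in terms of δ 1 and γ 1
  have hβform : ∀ a, β a = (a + θ a) * δ 1 + a * (γ 1 * θ (γ 1)) := by
    intro a
    have e2 := (hProd a 1).2.1
    rw [map_one, mul_one, hβneg, hδform a, hδform (a + 1), hγlin a, map_add, map_one] at e2
    linear_combination e2
  -- δ 1 = 0
  have hd0 : δ 1 = 0 := by
    obtain ⟨a, ha⟩ := h.θne
    have ha0 : a ≠ 0 := by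
      rintro rfl
      exact ha (map_zero θ)
    have e1 := hβEq (Units.mk0 a ha0) 1
    rw [Units.val_mk0, mul_one, hβform (a * θ a), hβform 1, map_mul, h.θθ, map_one] at e1
    have e2 : a * θ a * (a ^ 2 - 1) * δ 1 = 0 := by linear_combination e1
    have hθa : θ a ≠ 0 := fun e => ha0 ((map_eq_zero θ).1 e)
    have ha2 : a ^ 2 - 1 ≠ 0 := by
      intro e
      have : (a - 1) * (a + 1) = 0 := by linear_combination e
      rcases mul_eq_zero.1 this with h1 | h1
      · have : a = 1 := by linear_combination h1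
        rw [this, map_one] at ha
        exact ha rfl
      · have : a = -1 := by linear_combination h1
        rw [this, map_neg, map_one] at ha
        exact ha rfl
    rcases mul_eq_zero.1 e2 with h1 | h1
    · rcases mul_eq_zero.1 h1 with h2 | h2
      · rcases mul_eq_zero.1 h2 with h4 | h4
        · exact absurd h4 ha0
        · exact absurd h4 hθa
      · exact absurd h2 ha2
    · exact h1
  have hδ0 : ∀ a, δ a = 0 := fun a => by rw [hδform, hd0, mul_zero]
  -- γ 1 = 1
  have hg1 : γ 1 = 1 := by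
    apply hκ1
    have e3 := (hProd (-1) 1).2.2
    rw [neg_add_cancel, h00.2.2, hδ0, hγlin (-1), hηform (-1), map_neg, map_one] at e3
    linear_combination e3 + (γ 1 ^ 2 * θ (γ 1) - 1) * h3
  have hγid : ∀ a, γ a = a := fun a => by rw [hγlin, hg1, mul_one]
  have hβid : ∀ b, β b = b := fun b => by
    rw [hβform, hd0, hg1, map_one]
    ring
  -- η 1 = 0
  have he0 : η 1 = 0 := by
    obtain ⟨a, ha⟩ := h.θne
    have e3 := (hProd a 1).2.2
    rw [hδ0, hγid, hγid, hηform a, hηform (a + 1), map_add, map_one] at e3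
    have e4 : (a - 1) * (a - θ a) * η 1 = 0 := by
      linear_combination (-1 : F) * e3 - (a * θ a + a) * η 1 * h3
    have ha1 : a - 1 ≠ 0 := by
      intro e
      have : a = 1 := by linear_combination e
      rw [this, map_one] at ha
      exact ha rfl
    have ha2 : a - θ a ≠ 0 := by
      intro e
      apply ha
      linear_combination -e
    rcases mul_eq_zero.1 e4 with h1 | h1
    · rcases mul_eq_zero.1 h1 with h2 | h2
      · exact absurd h2 ha1
      · exact absurd h2 ha2
    · exact h1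
  have hη0 : ∀ a, η a = 0 := fun a => by rw [hηform, he0, mul_zero]
  refine ⟨fun a => ?_, fun b => ?_⟩
  · rw [hγ, hγid, hδ0, hη0]
  · rw [hβ, hβid]

end Ok

end Cfsg.Agent.Lib.Helper81.RO
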