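import Mathlib
import Cfsg.Agent.Lib.Helper81.ROBase

set_option autoImplicit false
set_option linter.unusedSectionVars false

namespace Cfsg.Agent.Lib.Helper81.RO

open scoped Pointwise

variable {F : Type*} [Field F] [Finite F] [CharP F 3] {G : Type*} [Group G] [Finite G]
variable {θ : F →+* F} {T : F → F → F → G} {H : Fˣ → G} {w : G}

namespace Ok

/-- piece RO-FIXW: an admissible automorphism fixing `Q` and the torus pointwise fixes `w`.
Adapt `Cfsg.Agent.Lib.Helper27.SzOut.Ok.adm_fix_w` (file `Lib/Helper27/SzOut.lean`; there `hH`, `hT`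
are derived first, here they are hypotheses).  Changes: `T 1 0` becomes `T 1 0 0`; in the step
`hcomm : T a b c * H s₁ = H s₁ * T a b c` (valid for EVERY unit `s₁`, same proof) use `h.HT` and
`h.T_inj` to get `a = s₁ * a`, `b = s₁ * θ s₁ * b`, `c = s₁ ^ 2 * θ s₁ * c`; take `s₁ = -1`
(`θ (-1) = -1`): `a = -a` and `c = -c`, so `a = 0`, `c = 0` (characteristic 3); take `s₁` from
`hu` (`s₁ * θ s₁ ≠ 1`): `b = 0`.  The end of the proof (`s₀ = 1`) is as in `SzOut`: it gives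
`T (s₀) 0 0 = T 1 0 0` (first weight is `s₀` itself), so `s₀ = 1` by `h.T_inj`. -/
theorem adm_fix_w (h : Ok θ T H w) (hu : ∃ s : Fˣ, (s : F) * θ (s : F) ≠ 1)
    {α : MulAut G} (hα : h.Adm α) (hT : ∀ a b c, α (T a b c) = T a b c)
    (hH : ∀ s, α (H s) = H s) : α w = w := by
  have hww : w * w = 1 := h.w_sq
  have hx : w * α w ∈ h.Bs := by
    apply h.mem_Bs_of_conj (h.T_mem 1 0 0) h.T100_ne_one
    have e : w * α w * T 1 0 0 * (w * α w)⁻¹ = w * α (w * T 1 0 0 * w⁻¹) * w⁻¹ := by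
      rw [map_mul, map_mul, map_inv, hT]
      group
    rw [e, hα.2]
    have e2 : w * (w * T 1 0 0 * w⁻¹) * w⁻¹ = (w * w) * T 1 0 0 * (w * w)⁻¹ := by group
    rw [e2, hww, one_mul, inv_one, mul_one]
    exact h.T_mem 1 0 0
  obtain ⟨a, b, c, s₀, hx⟩ := hx
  have hαw : α w = w * (T a b c * H s₀) := by
    rw [← hx, ← mul_assoc, hww, one_mul]
  have hcomm : ∀ s₁ : Fˣ, T a b c * H s₁ = H s₁ * T a b c := by
    intro s₁
    have e := congrArg α (h.wH' s₁)
    rw [map_mul, map_mul, map_inv, hH, hH, hαw] at e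
    have e' : w * (T a b c * H s₀) * H s₁ * (w * (T a b c * H s₀))⁻¹ = w * H s₁ * w⁻¹ := by
      rw [e, h.wH']
    have e2 : (T a b c * H s₀) * H s₁ * (T a b c * H s₀)⁻¹ = H s₁ := by
      have : (T a b c * H s₀) * H s₁ * (T a b c * H s₀)⁻¹
          = w⁻¹ * (w * (T a b c * H s₀) * H s₁ * (w * (T a b c * H s₀))⁻¹) * w := by group
      rw [this, e']
      group
    have e3 : H s₀ * H s₁ * (H s₀)⁻¹ = H s₁ := by
      rw [← h.H_mul, h.H_inv, ← h.H_mul, mul_comm s₀ s₁, mul_assoc, mul_inv_cancel, mul_one]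
    have e4 : T a b c * H s₁ * (T a b c)⁻¹ = H s₁ := by
      have : T a b c * H s₁ * (T a b c)⁻¹
          = T a b c * (H s₀ * H s₁ * (H s₀)⁻¹) * (T a b c)⁻¹ := by
        rw [e3]
      rw [this]
      have : T a b c * (H s₀ * H s₁ * (H s₀)⁻¹) * (T a b c)⁻¹
          = (T a b c * H s₀) * H s₁ * (T a b c * H s₀)⁻¹ := by group
      rw [this, e2]
    calc T a b c * H s₁ = T a b c * H s₁ * (T a b c)⁻¹ * T a b c := by group
      _ = H s₁ * T a b c := by rw [e4]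
  have hrel : ∀ s₁ : Fˣ, a = (s₁ : F) * a ∧ b = (s₁ : F) * θ (s₁ : F) * b ∧
      c = (s₁ : F) ^ 2 * θ (s₁ : F) * c := by
    intro s₁
    have e := hcomm s₁
    rw [h.HT] at e
    exact h.T_inj _ _ _ _ _ _ (mul_right_cancel e)
  have h3 : (3 : F) = 0 := three_eq_zero
  have h2 : (2 : F) ≠ 0 := by
    intro e2
    have : (1 : F) = 0 := by linear_combination h3 - e2
    exact one_ne_zero this
  obtain ⟨ea, -, ec⟩ := hrel (-1)
  rw [Units.val_neg, Units.val_one] at ea ec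
  have ha : a = 0 := by
    have : (2 : F) * a = 0 := by linear_combination ea
    rcases mul_eq_zero.1 this with h1 | h1
    · exact absurd h1 h2
    · exact h1
  have hc : c = 0 := by
    rw [map_neg, map_one] at ec
    have : (2 : F) * c = 0 := by linear_combination ec
    rcases mul_eq_zero.1 this with h1 | h1
    · exact absurd h1 h2
    · exact h1
  obtain ⟨s₁, hs₁⟩ := hu
  obtain ⟨-, eb, -⟩ := hrel s₁
  have hb : b = 0 := by
    have : ((s₁ : F) * θ (s₁ : F) - 1) * b = 0 := by linear_combination -eb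
    rcases mul_eq_zero.1 this with h1 | h1
    · exact absurd (sub_eq_zero.1 h1) hs₁
    · exact h1
  rw [ha, hb, hc, h.T_zero, one_mul] at hαw
  have hg : ∃ a b c a' b' c' s, w * T 1 0 0 * w⁻¹ = T a b c * w * (T a' b' c' * H s) := by
    rcases h.cases (w * T 1 0 0 * w⁻¹) with ⟨a, b, c, s, e⟩ | hc
    · exfalso
      exact h.T100_ne_one (h.eq_one_of_wuw' (h.T_mem 1 0 0) ⟨a, b, c, s, e⟩)
    · exact hc
  obtain ⟨a1, b1, c1, a2, b2, c2, s, hg⟩ := hg
  have e1 := congrArg α hg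
  rw [map_mul, map_mul, map_inv, map_mul, map_mul, map_mul, hT, hT, hT, hH, hαw] at e1
  have e2 : w * H s₀ * T 1 0 0 * (w * H s₀)⁻¹ = w * T (s₀ : F) 0 0 * w⁻¹ := by
    have : w * H s₀ * T 1 0 0 * (w * H s₀)⁻¹ = w * (H s₀ * T 1 0 0 * (H s₀)⁻¹) * w⁻¹ := by
      group
    rw [this, h.H_conj_T]
    simp only [mul_one, mul_zero]
  rw [e2] at e1
  have e3 : w * ((T 1 0 0)⁻¹ * T (s₀ : F) 0 0) * w⁻¹
      = (T a2 b2 c2 * H s)⁻¹ * H s₀ * (T a2 b2 c2 * H s) := by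
    have : w * ((T 1 0 0)⁻¹ * T (s₀ : F) 0 0) * w⁻¹
        = (w * T 1 0 0 * w⁻¹)⁻¹ * (w * T (s₀ : F) 0 0 * w⁻¹) := by group
    rw [this, hg, e1]
    group
  have e4 : (T 1 0 0)⁻¹ * T (s₀ : F) 0 0 = 1 := by
    apply h.eq_one_of_wuw' (h.Qs.mul_mem (h.Qs.inv_mem (h.T_mem 1 0 0)) (h.T_mem _ _ _))
    rw [e3]
    exact h.Bs.mul_mem (h.Bs.mul_mem (h.Bs.inv_mem ⟨a2, b2, c2, s, rfl⟩) (h.H_mem s₀))
      ⟨a2, b2, c2, s, rfl⟩
  have e5 : T (s₀ : F) 0 0 = T 1 0 0 := (inv_mul_eq_one.1 e4).symm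
  have e6 := (h.T_inj _ _ _ _ _ _ e5).1
  have e7 : s₀ = 1 := by
    apply Units.ext
    rw [e6, Units.val_one]
  rw [hαw, e7, h.H_one, mul_one]

end Ok

end Cfsg.Agent.Lib.Helper81.RO
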