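import Mathlib
import Cfsg.Agent.Lib.Helper81.ROBase

set_option autoImplicit false
set_option linter.unusedSectionVars false

namespace Cfsg.Agent.Lib.Helper81.RO

open scoped Pointwise

variable {F : Type*} [Field F] [Finite F] [CharP F 3] {G : Type*} [Group G] [Finite G]
variable {θ : F →+* F} {T : F → F → F → G} {H : Fˣ → G} {w : G}

namespace Ok

/-- piece RO-KAPPA (1/3): `κ s = s ^ 2 * θ s` has trivial kernel.
Proof: apply `θ` to `hs` and use `θθ`: `θ s ^ 2 * s ^ 3 = 1`; then
`linear_combination (-1 : F) * s * h2 + (s ^ 2 * θ s + 1) * hs`. -/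
theorem κ_eq_one (h : Ok θ T H w) {s : F} (hs : s ^ 2 * θ s = 1) : s = 1 := by
  have h2 : θ s ^ 2 * s ^ 3 = 1 := by
    have := congrArg θ hs
    rw [map_mul, map_pow, h.θθ, map_one] at this
    exact this
  linear_combination (-1 : F) * s * h2 + (s ^ 2 * θ s + 1) * hs

/-- piece RO-KAPPA (2/3): `κ` is onto the non-zero elements (injective endomorphism of the finite
group `Fˣ`, `s ↦ s ^ 2 * Units.map θ s`, kernel trivial by `κ_eq_one`). -/
theorem κ_surj (h : Ok θ T H w) {k : F} (hk : k ≠ 0) :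
    ∃ s : Fˣ, (s : F) ^ 2 * θ (s : F) = k := by
  let f : Fˣ →* Fˣ :=
    { toFun := fun s => s ^ 2 * Units.map (θ : F →* F) s
      map_one' := by simp
      map_mul' := by
        intro a b
        rw [map_mul, mul_pow]
        exact mul_mul_mul_comm _ _ _ _ }
  have hval : ∀ s : Fˣ, ((f s : Fˣ) : F) = (s : F) ^ 2 * θ (s : F) := by
    intro s
    simp [f]
  have hinj : Function.Injective f := by
    rw [injective_iff_map_eq_one]
    intro s hs
    have hs' : (s : F) ^ 2 * θ (s : F) = 1 := by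
      rw [← hval, hs, Units.val_one]
    exact Units.ext (h.κ_eq_one hs')
  have hsurj : Function.Surjective f := Finite.injective_iff_surjective.1 hinj
  obtain ⟨s, hs⟩ := hsurj (Units.mk0 k hk)
  refine ⟨s, ?_⟩
  rw [← hval, hs, Units.val_mk0]

/-- piece RO-KAPPA (3/3): some unit has `s * θ s ≠ 1`.
Proof: take `a` with `θ a ≠ a` (`h.θne`); then `a ≠ 0` and `a ≠ -1`.  If `s * θ s = 1` for all units,
use `s = a` and `s = a + 1`: `a + θ a = -1`, so `a * (-1 - a) = 1`, i.e. `(a - 1) ^ 2 = 0`
(characteristic 3: `three_eq_zero`), so `a = 1` and `θ a = 1 = a`, contradiction. -/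
theorem exists_unit (h : Ok θ T H w) : ∃ s : Fˣ, (s : F) * θ (s : F) ≠ 1 := by
  by_contra hcon
  have hall : ∀ s : Fˣ, (s : F) * θ (s : F) = 1 := by
    intro s
    by_contra hs
    exact hcon ⟨s, hs⟩
  obtain ⟨a, ha⟩ := h.θne
  have h3 : (3 : F) = 0 := three_eq_zero
  have ha0 : a ≠ 0 := by
    intro h0
    apply ha
    rw [h0, map_zero]
  have ha1 : a + 1 ≠ 0 := by
    intro h1
    apply ha
    have : a = -1 := eq_neg_of_add_eq_zero_left h1
    rw [this, map_neg, map_one]
  have e1 := hall (Units.mk0 a ha0)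
  have e2 := hall (Units.mk0 (a + 1) ha1)
  rw [Units.val_mk0] at e1 e2
  rw [map_add, map_one] at e2
  have e3 : θ a = -1 - a := by linear_combination e2 - e1
  have e4 : (a - 1) ^ 2 = 0 := by
    rw [e3] at e1
    linear_combination (-1 : F) * e1 - a * h3
  have e5 : a = 1 := by
    have := (pow_eq_zero_iff (n := 2) (by norm_num)).mp e4
    exact sub_eq_zero.mp this
  apply ha
  rw [e5, map_one]

end Ok

end Cfsg.Agent.Lib.Helper81.RO
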