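import Mathlib
import Cfsg.Agent.Lib.Helper81.ROBase

set_option autoImplicit false
set_option linter.unusedSectionVars false

namespace Cfsg.Agent.Lib.Helper81.RO

open scoped Pointwise

variable {F : Type*} [Field F] [Finite F] [CharP F 3] {G : Type*} [Group G] [Finite G]
variable {θ : F →+* F} {T : F → F → F → G} {H : Fˣ → G} {w : G}

namespace Ok

/-- piece RO-SEMI: an admissible automorphism acts semilinearly on the centre of `Q`.
Adapt `Cfsg.Agent.Lib.Helper27.SzOut.Ok.adm_semilinear` (file `Lib/Helper27/SzOut.lean`) verbatim: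
`T 0 b` there is `T 0 0 c` here, `h.T0_mul` there is `h.T00_mul` here, the weight
`θ s * s ^ 2` there is `s ^ 2 * θ s` here (`h.HT s 0 0 d`), `h.adm_H` is in `ROBase`. -/
theorem adm_semilinear (h : Ok θ T H w)
    (hκ : ∀ k : F, k ≠ 0 → ∃ s : Fˣ, (s : F) ^ 2 * θ (s : F) = k)
    (h00 : ∀ α : MulAut G, h.Adm α → ∀ c : F, ∃ c', α (T 0 0 c) = T 0 0 c')
    {α : MulAut G} (hα : h.Adm α) :
    ∃ (k : F) (σ : F ≃+* F), k ≠ 0 ∧ ∀ c, α (T 0 0 c) = T 0 0 (k * σ c) := by
  choose β hβ using fun c => h00 α hα c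
  have β_add : ∀ b b', β (b + b') = β b + β b' := by
    intro b b'
    have := congrArg α (h.T00_mul b b')
    rw [map_mul, hβ, hβ, hβ, h.T00_mul] at this
    exact ((h.T_inj _ _ _ _ _ _ this).2.2).symm
  have β_inj : Function.Injective β := by
    intro b b' e
    have : α (T 0 0 b) = α (T 0 0 b') := by rw [hβ, hβ, e]
    exact (h.T_inj _ _ _ _ _ _ (α.injective this)).2.2
  have β_zero : β 0 = 0 := by
    have := β_add 0 0
    rw [add_zero] at this
    exact left_eq_add.1 this
  have key : ∀ k : F, k ≠ 0 → ∃ k' : F, ∀ d, β (k * d) = k' * β d := by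
    intro k hk
    obtain ⟨s, hs⟩ := hκ k hk
    obtain ⟨s', hs'⟩ := h.adm_H hα s
    refine ⟨(s' : F) ^ 2 * θ (s' : F), fun d => ?_⟩
    have := congrArg α (h.HT s 0 0 d)
    rw [map_mul, map_mul, hs', hβ, mul_zero, mul_zero, hβ, h.HT, mul_zero, mul_zero, hs] at this
    exact ((h.T_inj _ _ _ _ _ _ (mul_right_cancel this)).2.2).symm
  have hc0 : β 1 ≠ 0 := fun e => one_ne_zero (β_inj (e.trans β_zero.symm))
  have hmul : ∀ k d, β (k * d) = β k / β 1 * β d := by
    intro k d
    by_cases hk : k = 0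
    · rw [hk, zero_mul, β_zero, zero_div, zero_mul]
    · obtain ⟨k', hk'⟩ := key k hk
      have h1 := hk' 1
      rw [mul_one] at h1
      rw [hk' d, h1, mul_div_cancel_right₀ _ hc0]
  let σ₀ : F →+* F :=
    { toFun := fun k => β k / β 1
      map_one' := div_self hc0
      map_mul' := fun k d => by rw [hmul k d, mul_div_assoc]
      map_zero' := by rw [β_zero, zero_div]
      map_add' := fun k d => by rw [β_add, add_div] }
  have hbij : Function.Bijective σ₀ :=
    ⟨σ₀.injective, Finite.injective_iff_surjective.1 σ₀.injective⟩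
  refine ⟨β 1, RingEquiv.ofBijective σ₀ hbij, hc0, fun b => ?_⟩
  rw [hβ]
  refine T_congr rfl rfl ?_
  show β b = β 1 * (β b / β 1)
  field_simp

end Ok

end Cfsg.Agent.Lib.Helper81.RO
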