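import Mathlib
import Cfsg.Agent.Lib.Helper81.ROBase
import Cfsg.Agent.Lib.Helper81.ROKappa
import Cfsg.Agent.Lib.Helper81.ROCenter
import Cfsg.Agent.Lib.Helper81.ROCube
import Cfsg.Agent.Lib.Helper81.ROSemi
import Cfsg.Agent.Lib.Helper81.ROFixH
import Cfsg.Agent.Lib.Helper81.ROFixTA
import Cfsg.Agent.Lib.Helper81.ROFixTB
import Cfsg.Agent.Lib.Helper81.ROFixW
import Cfsg.Agent.Lib.Helper81.ROExAdm
import Cfsg.Agent.Lib.Helper81.ROCard

/-!
# Outer automorphisms of a group with a Ree-type rank-one presentation: assembly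

`Ok.card_out`: under `Ok θ T H w`, `Aut G / Inn G` is in bijection with the ring automorphisms
of `F`.
-/

set_option autoImplicit false
set_option linter.unusedSectionVars false

namespace Cfsg.Agent.Lib.Helper81.RO

open scoped Pointwise

variable {F : Type*} [Field F] [Finite F] [CharP F 3] {G : Type*} [Group G] [Finite G]
variable {θ : F →+* F} {T : F → F → F → G} {H : Fˣ → G} {w : G}

namespace Ok

/-- an admissible automorphism fixing the centre of `Q` pointwise fixes `Q` pointwise -/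
theorem adm_fix_T (h : Ok θ T H w) {α : MulAut G} (hα : h.Adm α)
    (h0 : ∀ c, α (T 0 0 c) = T 0 0 c) (a b c : F) : α (T a b c) = T a b c := by
  have hH : ∀ s, α (H s) = H s := fun s => h.adm_fix_H (fun _ hs => h.κ_eq_one hs) hα h0 s
  obtain ⟨β, hβadd, hβ⟩ := h.adm_fix_TA (fun _ hα b c => h.adm_T0 hα b c) hα h0 hH
  obtain ⟨hA, hB⟩ := h.adm_fix_TB (fun _ hs => h.κ_eq_one hs) hα h0 hH β hβadd hβ
  rw [h.T_split a b c, map_mul, map_mul, hA, hB, h0]

/-- rigidity: an admissible automorphism fixing the centre of `Q` pointwise is trivial -/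
theorem adm_rigid (h : Ok θ T H w) {α : MulAut G} (hα : h.Adm α)
    (h0 : ∀ c, α (T 0 0 c) = T 0 0 c) : α = 1 := by
  have hH : ∀ s, α (H s) = H s := fun s => h.adm_fix_H (fun _ hs => h.κ_eq_one hs) hα h0 s
  have hT := h.adm_fix_T hα h0
  have hw := h.adm_fix_w h.exists_unit hα hT hH
  ext g
  rw [MulAut.one_apply]
  rcases h.cases g with ⟨a, b, c, s, rfl⟩ | ⟨a, b, c, a', b', c', s, rfl⟩
  · rw [map_mul, hT, hH]
  · rw [map_mul, map_mul, map_mul, hT, hT, hH, hw]

/-- the outer automorphism group is in bijection with the automorphisms of the field -/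
theorem card_out (h : Ok θ T H w) :
    Nat.card (MulAut G ⧸ (MulAut.conj : G →* MulAut G).range) = Nat.card (F ≃+* F) :=
  h.card_out_of (fun _ hs => h.κ_eq_one hs) (fun _ hk => h.κ_surj hk)
    (fun _ hα => h.adm_semilinear (fun _ hk => h.κ_surj hk) (fun _ hα c => h.adm_T00 hα c) hα)
    (fun _ hα h0 => h.adm_rigid hα h0) (fun α => h.exists_adm α)

end Ok

end Cfsg.Agent.Lib.Helper81.RO
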