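import Cfsg.Agent.Lib.Helper81.SimsMid

/-!
# Sims' theorem: bridge from the pointwise-`•` interface of Part II to `TutteStmt`
-/

namespace Cfsg.Agent.Lib.Helper81.Sims

open Subgroup
open scoped Pointwise

universe u

/-- Interface of Part II (Tutte's theorem in group form), as provided by helper55. -/
def TutteGroupForm : Prop :=
  ∀ (G : Type u) [Group G] [Finite G] (H K : Subgroup G) (t : G),
    K = H ⊓ MulAut.conj t • H → K.relIndex H = 3 → t ^ 2 ∈ K →
    (∀ N : Subgroup G, N ≤ H → (∀ h ∈ H, MulAut.conj h • N = N) → MulAut.conj t • N = N →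
      N = ⊥) →
    ∃ k : ℕ, k ≤ 4 ∧ Nat.card K = 2 ^ k

theorem smul_eq_cj {G : Type u} [Group G] (t : G) (H : Subgroup G) :
    MulAut.conj t • H = cj t H := by
  ext x
  rw [mem_cj, Subgroup.mem_pointwise_smul_iff_inv_smul_mem]
  have e : (MulAut.conj t)⁻¹ • x = t⁻¹ * x * t := by
    rw [← map_inv, MulAut.smul_def, MulAut.conj_apply, inv_inv]
  rw [e]

/-- `g` normalises `N` when `g N g⁻¹ = N`. -/
theorem mem_normalizer_of_cj_eq {G : Type u} [Group G] {g : G} {N : Subgroup G}
    (h : cj g N = N) : g ∈ normalizer (N : Set G) := by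
  rw [mem_normalizer_iff]
  intro n
  constructor
  · intro hn
    have := conj_mem_cj (c := g) hn
    rw [h] at this; exact this
  · intro hn
    rw [← h, mem_cj] at hn
    have e : g⁻¹ * (g * n * g⁻¹) * g = n := by group
    rw [e] at hn; exact hn

theorem relIndex_eq_three {G : Type u} [Group G] [Finite G] {H K : Subgroup G} (hKH : K ≤ H)
    (hcard : Nat.card H = 3 * Nat.card K) : K.relIndex H = 3 := by
  have h1 : Nat.card (K.subgroupOf H) * (K.subgroupOf H).index = Nat.card H :=
    Subgroup.card_mul_index _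
  have h2 : Nat.card (K.subgroupOf H) = Nat.card K :=
    Nat.card_congr (Subgroup.subgroupOfEquivOfLe hKH).toEquiv
  have hpos : 0 < Nat.card K := Nat.card_pos
  rw [h2, hcard, mul_comm 3] at h1
  exact Nat.eq_of_mul_eq_mul_left hpos h1

theorem tutteStmt_of_groupForm (h : TutteGroupForm.{u}) : TutteStmt.{u} := by
  intro G _ _ H t hco hcore ht htt hcard
  have hKH : H ⊓ cj t H ≤ H := inf_le_left
  have key : ∃ k : ℕ, k ≤ 4 ∧ Nat.card ↥(H ⊓ MulAut.conj t • H) = 2 ^ k := by
    refine h G H (H ⊓ MulAut.conj t • H) t rfl ?_ ?_ ?_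
    · rw [smul_eq_cj]
      exact relIndex_eq_three hKH hcard
    · rw [smul_eq_cj, pow_two]
      have h2 : t * t ∈ cj t H := by
        rw [mem_cj]
        have e : t⁻¹ * (t * t) * t = t * t := by group
        rw [e]; exact htt
      exact ⟨htt, h2⟩
    · intro N hNH hH htN
      have hHn : H ≤ normalizer (N : Set G) := by
        intro x hx
        have := hH x hx
        rw [smul_eq_cj] at this
        exact mem_normalizer_of_cj_eq this
      have htn : t ∈ normalizer (N : Set G) := by
        rw [smul_eq_cj] at htN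
        exact mem_normalizer_of_cj_eq htN
      have htop : normalizer (N : Set G) = ⊤ :=
        hco.2 _ (lt_of_le_of_ne hHn (fun e => ht (by rw [e]; exact htn)))
      rw [eq_bot_iff]
      intro x hx
      have h1 : x ∈ H.normalCore := by
        intro b
        have hb' : b ∈ normalizer (N : Set G) := by rw [htop]; exact mem_top b
        exact hNH ((mem_normalizer_iff.mp hb' x).mp hx)
      rw [hcore] at h1
      exact h1
  rw [smul_eq_cj] at key
  exact key

end Cfsg.Agent.Lib.Helper81.Sims
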