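import Mathlib

/-!
# Sims' theorem on primitive groups with a suborbit of length 3: front end

`GTStmt` is the pure group form: `H` maximal and core-free in the finite group `G`, `c ∉ H`,
`K = H ⊓ c H c⁻¹` of index 3 in `H` (stated as `|H| = 3 |K|`); then `|K| = 2 ^ k`, `k ≤ 4`.
`sims_of_GT` derives the permutation-group statement from it.
-/

set_option autoImplicit false

namespace Cfsg.Agent.Lib.Helper81.Sims

universe u

/-- The pure group form of Sims' theorem. -/
def GTStmt : Prop :=
  ∀ (G : Type u) [Group G] [Finite G] (H : Subgroup G) (c : G),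
    IsCoatom H → H.normalCore = ⊥ → c ∉ H →
    Nat.card H = 3 * Nat.card ↥(H ⊓ H.map (MulAut.conj c).toMonoidHom) →
    ∃ k : ℕ, k ≤ 4 ∧ Nat.card ↥(H ⊓ H.map (MulAut.conj c).toMonoidHom) = 2 ^ k

theorem normalCore_stabilizer_eq_bot {G : Type*} [Group G] {Ω : Type*} [MulAction G Ω]
    [FaithfulSMul G Ω] [MulAction.IsPretransitive G Ω] (a : Ω) :
    (MulAction.stabilizer G a).normalCore = ⊥ := by
  rw [eq_bot_iff]
  intro x hx
  rw [Subgroup.mem_bot]
  apply FaithfulSMul.eq_of_smul_eq_smul (α := Ω)
  intro ω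
  obtain ⟨g, rfl⟩ := MulAction.exists_smul_eq G a ω
  have h1 : g⁻¹ * x * g⁻¹⁻¹ ∈ MulAction.stabilizer G a := hx g⁻¹
  rw [MulAction.mem_stabilizer_iff, inv_inv, mul_smul, mul_smul] at h1
  rw [one_smul]
  have h2 := congrArg (fun y => g • y) h1
  simpa using h2

theorem card_eq_three_mul {G : Type*} [Group G] [Finite G] {Ω : Type*} [MulAction G Ω]
    (a b : Ω) (h3 : Nat.card (MulAction.orbit (MulAction.stabilizer G a) b) = 3) :
    Nat.card (MulAction.stabilizer G a) =
      3 * Nat.card ↥(MulAction.stabilizer G a ⊓ MulAction.stabilizer G b) := by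
  classical
  set H := MulAction.stabilizer G a with hH
  have h1 : Nat.card (MulAction.orbit H b) * Nat.card (MulAction.stabilizer H b) = Nat.card H := by
    have e := MulAction.orbitProdStabilizerEquivGroup H b
    rw [← Nat.card_prod]
    exact Nat.card_congr e
  have h2 : Nat.card (MulAction.stabilizer H b) =
      Nat.card ↥(H ⊓ MulAction.stabilizer G b) := by
    apply Nat.card_congr
    refine ⟨fun x => ⟨(x.1 : G), ⟨x.1.2, ?_⟩⟩, fun y => ⟨⟨y.1, y.2.1⟩, ?_⟩, ?_, ?_⟩
    · have h := x.2
      rw [MulAction.mem_stabilizer_iff] at h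
      exact (MulAction.mem_stabilizer_iff (G := G)).mpr h
    · have h : (y.1 : G) ∈ MulAction.stabilizer G b := y.2.2
      rw [MulAction.mem_stabilizer_iff] at h
      exact (MulAction.mem_stabilizer_iff (G := H)).mpr h
    · intro x; rfl
    · intro y; rfl
  rw [← h1, h3, h2]

/-- Front end: the permutation-group form of Sims' theorem follows from the group form. -/
theorem sims_of_GT (hGT : GTStmt.{u}) {G : Type u} [Group G] [Finite G] {Ω : Type*}
    [MulAction G Ω] [FaithfulSMul G Ω]
    (hprim : MulAction.IsPreprimitive G Ω) (a b : Ω)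
    (h3 : Nat.card (MulAction.orbit (MulAction.stabilizer G a) b) = 3) :
    ∃ k : ℕ, k ≤ 4 ∧ Nat.card ↥(MulAction.stabilizer G a) = 2 ^ k * 3 := by
  classical
  have : MulAction.IsPretransitive G Ω := hprim.toIsPretransitive
  have hcard := card_eq_three_mul a b h3
  have hab : b ≠ a := by
    rintro rfl
    have : MulAction.orbit (MulAction.stabilizer G b) b = {b} := by
      ext y
      constructor
      · rintro ⟨x, rfl⟩
        exact x.2
      · rintro rfl
        exact MulAction.mem_orbit_self _
    rw [this] at h3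
    simp at h3
  have : Nontrivial Ω := ⟨⟨b, a, hab⟩⟩
  have hco : IsCoatom (MulAction.stabilizer G a) :=
    (MulAction.isCoatom_stabilizer_iff_preprimitive (G := G) a).mpr hprim
  obtain ⟨c, hc⟩ := MulAction.exists_smul_eq G a b
  have hcH : c ∉ MulAction.stabilizer G a := by
    intro h
    rw [MulAction.mem_stabilizer_iff] at h
    exact hab (hc.symm.trans h)
  have hst : MulAction.stabilizer G b =
      (MulAction.stabilizer G a).map (MulAut.conj c).toMonoidHom := by
    rw [← hc]
    exact MulAction.stabilizer_smul_eq_stabilizer_map_conj c a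
  rw [hst] at hcard
  obtain ⟨k, hk, hk2⟩ := hGT G (MulAction.stabilizer G a) c hco
    (normalCore_stabilizer_eq_bot a) hcH hcard
  refine ⟨k, hk, ?_⟩
  rw [hcard, hk2, mul_comm]

end Cfsg.Agent.Lib.Helper81.Sims
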