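import Mathlib
import Cfsg.Agent.Lib.Helper81.SimsFront

/-!
# Sims' theorem, group form: the elementary middle layer

Setting: `G` finite, `H` a core-free coatom, `c ∉ H`, `K = H ⊓ c H c⁻¹` with `|H| = 3 |K|`.
We prove: `H ⊔ c H c⁻¹ = ⊤`, `K` is a 2-group, `K ⊴ H → K = ⊥`, and for `t ∈ N_G(K)`, `t ∉ H`:
`H ⊓ t H t⁻¹ = K`.  `GT_of_tutte_odd` reduces the group form to the self-paired case (Tutte) and
the odd case.
-/

set_option autoImplicit false

namespace Cfsg.Agent.Lib.Helper81.Sims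

universe u

open Subgroup

/-- The conjugate subgroup `c H c⁻¹`. -/
abbrev cj {G : Type*} [Group G] (c : G) (H : Subgroup G) : Subgroup G :=
  H.map (MulAut.conj c).toMonoidHom

section basic

variable {G : Type*} [Group G]

theorem mem_cj {c x : G} {H : Subgroup G} : x ∈ cj c H ↔ c⁻¹ * x * c ∈ H := by
  constructor
  · rintro ⟨y, hy, rfl⟩
    have : c⁻¹ * (MulAut.conj c).toMonoidHom y * c = y := by
      simp [MulAut.conj_apply, mul_assoc]
    rw [this]; exact hy
  · intro h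
    refine ⟨c⁻¹ * x * c, h, ?_⟩
    simp [MulAut.conj_apply, mul_assoc]

theorem conj_mem_cj {c x : G} {H : Subgroup G} (hx : x ∈ H) : c * x * c⁻¹ ∈ cj c H := by
  rw [mem_cj]
  have : c⁻¹ * (c * x * c⁻¹) * c = x := by group
  rw [this]; exact hx

theorem card_cj (c : G) (H : Subgroup G) : Nat.card ↥(cj c H) = Nat.card ↥H :=
  Subgroup.card_map_of_injective (MulAut.conj c).injective

theorem cj_mono {c : G} {H K : Subgroup G} (h : K ≤ H) : cj c K ≤ cj c H :=
  Subgroup.map_mono h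

/-- A permutation of a 3-element type with a fixed point is an involution. -/
theorem perm_sq_of_card_three {X : Type*} (h3 : Nat.card X = 3) (σ : Equiv.Perm X) (p : X)
    (hp : σ p = p) (q : X) : σ (σ q) = q := by
  by_contra hne
  have hfin : Finite X := Nat.finite_of_card_ne_zero (by rw [h3]; norm_num)
  classical
  have : Fintype X := Fintype.ofFinite X
  have hqp : q ≠ p := by
    rintro rfl
    exact hne (by rw [hp, hp])
  have hrp : σ q ≠ p := fun h => hqp (σ.injective (h.trans hp.symm))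
  have hrq : σ q ≠ q := fun h => hne (by rw [h, h])
  have hsp : σ (σ q) ≠ p := fun h => hrp (σ.injective (h.trans hp.symm))
  have hsr : σ (σ q) ≠ σ q := fun h => hrq (σ.injective h)
  have hcard : ({p, q, σ q, σ (σ q)} : Finset X).card = 4 := by
    rw [Finset.card_insert_of_notMem, Finset.card_insert_of_notMem,
      Finset.card_insert_of_notMem, Finset.card_singleton]
    · simp only [Finset.mem_singleton]
      exact fun h => hsr h.symm
    · simp only [Finset.mem_insert, Finset.mem_singleton, not_or]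
      exact ⟨fun h => hrq h.symm, fun h => hne h.symm⟩
    · simp only [Finset.mem_insert, Finset.mem_singleton, not_or]
      exact ⟨fun h => hqp h.symm, fun h => hrp h.symm, fun h => hsp h.symm⟩
  have h4 := Finset.card_le_univ ({p, q, σ q, σ (σ q)} : Finset X)
  rw [hcard, ← Nat.card_eq_fintype_card, h3] at h4
  omega

/-- If `K ≤ H` has index 3 then the squares of the elements of `K` lie in all `H`-conjugates
of `K`. -/
theorem conj_sq_mem [Finite G] {H K : Subgroup G} (hKH : K ≤ H)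
    (hcard : Nat.card H = 3 * Nat.card K) {x h : G} (hx : x ∈ K) (hh : h ∈ H) :
    h * (x * x) * h⁻¹ ∈ K := by
  classical
  set K' : Subgroup ↥H := K.subgroupOf H with hK'
  have hK'card : Nat.card K' = Nat.card K :=
    Nat.card_congr (Subgroup.subgroupOfEquivOfLe hKH).toEquiv
  have hpos : 0 < Nat.card K := Nat.card_pos
  have hidx : K'.index = 3 := by
    have := Subgroup.card_mul_index K'
    rw [hK'card, hcard, mul_comm] at this
    exact Nat.eq_of_mul_eq_mul_right hpos this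
  have h3 : Nat.card (↥H ⧸ K') = 3 := hidx
  let x' : ↥H := ⟨x, hKH hx⟩
  let h' : ↥H := ⟨h, hh⟩
  have hx' : x' ∈ K' := by
    rw [hK', Subgroup.mem_subgroupOf]; exact hx
  let σ : Equiv.Perm (↥H ⧸ K') := MulAction.toPerm x'
  have hp : σ (QuotientGroup.mk (1 : ↥H)) = QuotientGroup.mk (1 : ↥H) := by
    change x' • (QuotientGroup.mk (1 : ↥H) : ↥H ⧸ K') = _
    rw [MulAction.Quotient.smul_mk, QuotientGroup.eq]
    simpa using hx'
  have h2 := perm_sq_of_card_three h3 σ _ hp (QuotientGroup.mk h'⁻¹)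
  change x' • x' • (QuotientGroup.mk h'⁻¹ : ↥H ⧸ K') = _ at h2
  rw [MulAction.Quotient.smul_mk, MulAction.Quotient.smul_mk, QuotientGroup.eq] at h2
  have h5 : h' * (x' * x') * h'⁻¹ ∈ K' := by
    have := K'.inv_mem h2
    have e : ((x' • x' • h'⁻¹)⁻¹ * h'⁻¹)⁻¹ = h' * (x' * x') * h'⁻¹ := by
      simp [smul_eq_mul, mul_assoc]
    rw [e] at this
    exact this
  rw [hK', Subgroup.mem_subgroupOf] at h5
  exact h5

/-- If `K ≤ H` has index 3 then the elements of odd order of `K` lie in all `H`-conjugates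
of `K`. -/
theorem conj_mem_of_odd [Finite G] {H K : Subgroup G} (hKH : K ≤ H)
    (hcard : Nat.card H = 3 * Nat.card K) {x h : G} (hx : x ∈ K) (hodd : Odd (orderOf x))
    (hh : h ∈ H) : h * x * h⁻¹ ∈ K := by
  obtain ⟨m, hm⟩ := hodd
  have hx2 : (x * x) ^ (m + 1) = x := by
    rw [← pow_two, ← pow_mul]
    have : 2 * (m + 1) = orderOf x + 1 := by omega
    rw [this, pow_succ, pow_orderOf_eq_one, one_mul]
  have h1 := K.pow_mem (conj_sq_mem hKH hcard hx hh) (m + 1)
  rw [conj_pow, hx2] at h1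
  exact h1

theorem orderOf_conj_eq (g y : G) : orderOf (g * y * g⁻¹) = orderOf y := by
  rw [← MulAut.conj_apply]
  exact MulEquiv.orderOf_eq _ _

/-- A subgroup between `K` and `H`, where `|H| = 3 |K|`, is `K` or `H`. -/
theorem eq_or_eq_of_le_of_le [Finite G] {K L H : Subgroup G} (hKL : K ≤ L) (hLH : L ≤ H)
    (hcard : Nat.card H = 3 * Nat.card K) : L = K ∨ L = H := by
  have hpos : 0 < Nat.card K := Nat.card_pos
  obtain ⟨m, hm⟩ := Subgroup.card_dvd_of_le hKL
  have h2 : Nat.card L ∣ Nat.card H := Subgroup.card_dvd_of_le hLH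
  rw [hcard, hm, mul_comm 3] at h2
  have h3 : m ∣ 3 := Nat.dvd_of_mul_dvd_mul_left hpos h2
  rcases (Nat.dvd_prime Nat.prime_three).mp h3 with rfl | rfl
  · left
    exact (Subgroup.eq_of_le_of_card_ge hKL (by rw [hm, mul_one])).symm
  · right
    exact Subgroup.eq_of_le_of_card_ge hLH (by rw [hcard, hm, mul_comm])

end basic

section main

variable {G : Type*} [Group G] [Finite G] {H : Subgroup G} {c : G}

omit [Finite G] in
theorem normalizer_eq_self (hco : IsCoatom H) (hcore : H.normalCore = ⊥)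
    (hcard : Nat.card H = 3 * Nat.card ↥(H ⊓ cj c H)) : normalizer (H : Set G) = H := by
  rcases eq_or_lt_of_le (le_normalizer (H := H)) with h | h
  · exact h.symm
  · exfalso
    have h1 : normalizer (H : Set G) = ⊤ := hco.2 _ h
    have h2 : H.Normal := normalizer_eq_top_iff.mp h1
    have h3 : H = ⊥ := by rw [← hcore]; exact (Subgroup.normalCore_eq_self H).symm
    have h4 : Nat.card H = 1 := by rw [h3]; exact Subgroup.card_bot
    omega

omit [Finite G] in
theorem cj_ne_of_notMem (hco : IsCoatom H) (hcore : H.normalCore = ⊥)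
    (hcard : Nat.card H = 3 * Nat.card ↥(H ⊓ cj c H)) {t : G} (ht : t ∉ H) : cj t H ≠ H := by
  intro h
  apply ht
  rw [← normalizer_eq_self hco hcore hcard, mem_normalizer_iff]
  intro x
  constructor
  · intro hx
    have := conj_mem_cj (c := t) hx
    rw [h] at this; exact this
  · intro hx
    rw [← h, mem_cj] at hx
    have e : t⁻¹ * (t * x * t⁻¹) * t = x := by group
    rw [e] at hx; exact hx

theorem sup_cj_eq_top (hco : IsCoatom H) (hcore : H.normalCore = ⊥)
    (hcard : Nat.card H = 3 * Nat.card ↥(H ⊓ cj c H)) {t : G} (ht : t ∉ H) :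
    H ⊔ cj t H = ⊤ := by
  have hlt : H < H ⊔ cj t H := by
    rw [left_lt_sup]
    intro h1
    exact cj_ne_of_notMem hco hcore hcard ht
      (Subgroup.eq_of_le_of_card_ge h1 (by rw [card_cj]))
  exact hco.2 _ hlt

/-- All `G`-conjugates of an element of odd order of `K` lie in `K`. -/
theorem odd_conj_mem (hco : IsCoatom H) (hcore : H.normalCore = ⊥) (hc : c ∉ H)
    (hcard : Nat.card H = 3 * Nat.card ↥(H ⊓ cj c H)) {x : G} (hx : x ∈ H ⊓ cj c H)
    (hodd : Odd (orderOf x)) (g : G) : g * x * g⁻¹ ∈ H ⊓ cj c H := by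
  have hKH : H ⊓ cj c H ≤ H := inf_le_left
  have hKH' : H ⊓ cj c H ≤ cj c H := inf_le_right
  have hcard' : Nat.card (cj c H) = 3 * Nat.card ↥(H ⊓ cj c H) := by rw [card_cj]; exact hcard
  let T : Subgroup G :=
    { carrier := {g | (∀ y ∈ H ⊓ cj c H, Odd (orderOf y) → g * y * g⁻¹ ∈ H ⊓ cj c H) ∧
        (∀ y ∈ H ⊓ cj c H, Odd (orderOf y) → g⁻¹ * y * g ∈ H ⊓ cj c H)}
      one_mem' := by
        refine ⟨fun y hy _ => ?_, fun y hy _ => ?_⟩ <;> simpa using hy
      mul_mem' := by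
        rintro a b ⟨ha1, ha2⟩ ⟨hb1, hb2⟩
        refine ⟨fun y hy ho => ?_, fun y hy ho => ?_⟩
        · have h1 := hb1 y hy ho
          have h2 := ha1 _ h1 (by rw [orderOf_conj_eq]; exact ho)
          have e : a * b * y * (a * b)⁻¹ = a * (b * y * b⁻¹) * a⁻¹ := by group
          rw [e]; exact h2
        · have h1 := ha2 y hy ho
          have ho' : Odd (orderOf (a⁻¹ * y * a)) := by
            have := orderOf_conj_eq a⁻¹ y
            rw [inv_inv] at this
            rw [this]; exact ho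
          have h2 := hb2 _ h1 ho'
          have e : (a * b)⁻¹ * y * (a * b) = b⁻¹ * (a⁻¹ * y * a) * b := by group
          rw [e]; exact h2
      inv_mem' := by
        rintro a ⟨ha1, ha2⟩
        refine ⟨fun y hy ho => ?_, fun y hy ho => ?_⟩
        · rw [inv_inv]; exact ha2 y hy ho
        · rw [inv_inv]; exact ha1 y hy ho }
  have hHT : H ≤ T := by
    intro h hh
    refine ⟨fun y hy ho => conj_mem_of_odd hKH hcard hy ho hh, fun y hy ho => ?_⟩
    have := conj_mem_of_odd hKH hcard hy ho (H.inv_mem hh)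
    rw [inv_inv] at this; exact this
  have hHT' : cj c H ≤ T := by
    intro h hh
    refine ⟨fun y hy ho => conj_mem_of_odd hKH' hcard' hy ho hh, fun y hy ho => ?_⟩
    have := conj_mem_of_odd hKH' hcard' hy ho ((cj c H).inv_mem hh)
    rw [inv_inv] at this; exact this
  have hT : (⊤ : Subgroup G) ≤ T := by
    rw [← sup_cj_eq_top hco hcore hcard hc]
    exact sup_le hHT hHT'
  exact (hT (Subgroup.mem_top g)).1 x hx hodd

theorem eq_one_of_odd (hco : IsCoatom H) (hcore : H.normalCore = ⊥) (hc : c ∉ H)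
    (hcard : Nat.card H = 3 * Nat.card ↥(H ⊓ cj c H)) {x : G} (hx : x ∈ H ⊓ cj c H)
    (hodd : Odd (orderOf x)) : x = 1 := by
  have h1 : x ∈ H.normalCore := fun g =>
    (odd_conj_mem hco hcore hc hcard hx hodd g).1
  rw [hcore, Subgroup.mem_bot] at h1
  exact h1

/-- `K = H ⊓ c H c⁻¹` is a 2-group. -/
theorem isPGroup_K (hco : IsCoatom H) (hcore : H.normalCore = ⊥) (hc : c ∉ H)
    (hcard : Nat.card H = 3 * Nat.card ↥(H ⊓ cj c H)) : IsPGroup 2 ↥(H ⊓ cj c H) := by
  rintro ⟨y, hy⟩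
  obtain ⟨k, m, hm, hn⟩ := Nat.exists_eq_two_pow_mul_odd (orderOf_pos y).ne'
  refine ⟨k, ?_⟩
  have hz : y ^ 2 ^ k ∈ H ⊓ cj c H := Subgroup.pow_mem _ hy _
  have hzm : (y ^ 2 ^ k) ^ m = 1 := by rw [← pow_mul, ← hn, pow_orderOf_eq_one]
  have hodd : Odd (orderOf (y ^ 2 ^ k)) := Odd.of_dvd_nat hm (orderOf_dvd_of_pow_eq_one hzm)
  have h1 := eq_one_of_odd hco hcore hc hcard hz hodd
  apply Subtype.ext
  simpa using h1

theorem exists_card_K (hco : IsCoatom H) (hcore : H.normalCore = ⊥) (hc : c ∉ H)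
    (hcard : Nat.card H = 3 * Nat.card ↥(H ⊓ cj c H)) :
    ∃ k : ℕ, Nat.card ↥(H ⊓ cj c H) = 2 ^ k := by
  have : Fact (Nat.Prime 2) := ⟨Nat.prime_two⟩
  exact (isPGroup_K hco hcore hc hcard).exists_card_eq

/-- If `K` is normal in `H` then `K = ⊥`. -/
theorem K_eq_bot_of_le_normalizer (hco : IsCoatom H) (hcore : H.normalCore = ⊥) (hc : c ∉ H)
    (hcard : Nat.card H = 3 * Nat.card ↥(H ⊓ cj c H))
    (hN : H ≤ normalizer ((H ⊓ cj c H : Subgroup G) : Set G)) : H ⊓ cj c H = ⊥ := by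
  have hKH : H ⊓ cj c H ≤ H := inf_le_left
  have hKH' : H ⊓ cj c H ≤ cj c H := inf_le_right
  -- step a
  have ha : cj c H ≤ normalizer ((cj c (H ⊓ cj c H) : Subgroup G) : Set G) := by
    intro x hx
    rw [mem_normalizer_iff]
    intro y
    rw [mem_cj, mem_cj]
    have hu : c⁻¹ * x * c ∈ H := mem_cj.mp hx
    have h1 := (mem_normalizer_iff.mp (hN hu)) (c⁻¹ * y * c)
    have e : c⁻¹ * x * c * (c⁻¹ * y * c) * (c⁻¹ * x * c)⁻¹ = c⁻¹ * (x * y * x⁻¹) * c := by group
    rw [e] at h1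
    exact h1
  -- step b
  have hb : ∀ y ∈ cj c H, y ^ 3 ∈ cj c (H ⊓ cj c H) := by
    intro y hy
    set N' : Subgroup ↥(cj c H) := (cj c (H ⊓ cj c H)).subgroupOf (cj c H) with hN'
    have : N'.Normal := Subgroup.normal_subgroupOf_of_le_normalizer ha
    have hN'card : Nat.card N' = Nat.card ↥(H ⊓ cj c H) := by
      rw [Nat.card_congr (Subgroup.subgroupOfEquivOfLe (cj_mono hKH)).toEquiv, card_cj]
    have hpos : 0 < Nat.card ↥(H ⊓ cj c H) := Nat.card_pos
    have hidx : N'.index = 3 := by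
      have := Subgroup.card_mul_index N'
      rw [hN'card, card_cj, hcard, mul_comm] at this
      exact Nat.eq_of_mul_eq_mul_right hpos this
    have h1 := Subgroup.pow_index_mem N' (⟨y, hy⟩ : ↥(cj c H))
    rw [hidx, hN', Subgroup.mem_subgroupOf] at h1
    simpa using h1
  -- step c
  have hc' : H ⊓ cj c H ≤ cj c (H ⊓ cj c H) := by
    intro y hy
    have : Fact (Nat.Prime 2) := ⟨Nat.prime_two⟩
    obtain ⟨j, hj⟩ := (IsPGroup.iff_orderOf.mp (isPGroup_K hco hcore hc hcard)) ⟨y, hy⟩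
    have hj' : orderOf y = 2 ^ j := by
      rw [← hj]; exact (Subgroup.orderOf_mk y hy).symm
    have hcop : Nat.Coprime 3 (orderOf y) := by
      rw [hj']
      exact Nat.Coprime.pow_right j (by norm_num)
    obtain ⟨m, hm⟩ := exists_pow_eq_self_of_coprime hcop
    rw [← hm]
    exact Subgroup.pow_mem _ (hb y (hKH' hy)) m
  -- step d
  have hd : H ⊓ cj c H = cj c (H ⊓ cj c H) :=
    Subgroup.eq_of_le_of_card_ge hc' (by rw [card_cj])
  -- step e
  have he : c ∈ normalizer ((H ⊓ cj c H : Subgroup G) : Set G) := by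
    rw [mem_normalizer_iff]
    intro h
    constructor
    · intro hh
      have := conj_mem_cj (c := c) hh
      rw [← hd] at this; exact this
    · intro hh
      rw [hd, mem_cj] at hh
      have e : c⁻¹ * (c * h * c⁻¹) * c = h := by group
      rw [e] at hh; exact hh
  -- step f
  have hf : normalizer ((H ⊓ cj c H : Subgroup G) : Set G) = ⊤ := by
    apply hco.2
    exact lt_of_le_of_ne hN (fun h => hc (by rw [h]; exact he))
  -- step g
  rw [eq_bot_iff]
  intro x hx
  have h1 : x ∈ H.normalCore := by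
    intro b
    have hb' : b ∈ normalizer ((H ⊓ cj c H : Subgroup G) : Set G) := by rw [hf]; exact mem_top b
    exact hKH ((mem_normalizer_iff.mp hb' x).mp hx)
  rw [hcore] at h1
  exact h1

/-- For `t ∈ N_G(K)`, `t ∉ H`: `H ⊓ t H t⁻¹ = K`. -/
theorem inf_cj_eq (hco : IsCoatom H) (hcore : H.normalCore = ⊥)
    (hcard : Nat.card H = 3 * Nat.card ↥(H ⊓ cj c H)) {t : G}
    (ht : t ∈ normalizer ((H ⊓ cj c H : Subgroup G) : Set G)) (htH : t ∉ H) :
    H ⊓ cj t H = H ⊓ cj c H := by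
  have hKH : H ⊓ cj c H ≤ H := inf_le_left
  have hKL : H ⊓ cj c H ≤ H ⊓ cj t H := by
    refine le_inf hKH (fun x hx => ?_)
    rw [mem_cj]
    have h1 := (mem_normalizer_iff.mp (Subgroup.inv_mem _ ht) x).mp hx
    rw [inv_inv] at h1
    exact hKH h1
  have hLH : H ⊓ cj t H ≤ H := inf_le_left
  rcases eq_or_eq_of_le_of_le (K := H ⊓ cj c H) (L := H ⊓ cj t H) (H := H) hKL hLH hcard
    with h | h
  · exact h
  · exfalso
    have h1 : H ≤ cj t H := inf_eq_left.mp h
    have h2 : H = cj t H := Subgroup.eq_of_le_of_card_ge h1 (by rw [card_cj])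
    exact cj_ne_of_notMem hco hcore hcard htH h2.symm

/-- `N_G(K) ≰ H`: some element outside `H` normalises `K`. -/
theorem exists_mem_normalizer_notMem (hco : IsCoatom H) (hcore : H.normalCore = ⊥) (hc : c ∉ H)
    (hcard : Nat.card H = 3 * Nat.card ↥(H ⊓ cj c H)) :
    ∃ n : G, n ∈ normalizer ((H ⊓ cj c H : Subgroup G) : Set G) ∧ n ∉ H := by
  classical
  have hKH : H ⊓ cj c H ≤ H := inf_le_left
  have hKH' : H ⊓ cj c H ≤ cj c H := inf_le_right
  obtain ⟨k, hk⟩ := exists_card_K hco hcore hc hcard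
  have : Fact (Nat.Prime 2) := ⟨Nat.prime_two⟩
  have hM : Nat.card ↥(cj c H) = 3 * 2 ^ k := by rw [card_cj, hcard, hk]
  have hfac : (Nat.card ↥(cj c H)).factorization 2 = k := by
    rw [hM, Nat.factorization_mul (by norm_num) (by positivity), Finsupp.add_apply,
      Nat.factorization_pow, Finsupp.smul_apply, Nat.Prime.factorization_self Nat.prime_two,
      Nat.factorization_eq_zero_of_not_dvd (by norm_num)]
    simp
  let P₁ : Sylow 2 ↥(cj c H) := Sylow.ofCard ((H ⊓ cj c H).subgroupOf (cj c H)) (by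
    rw [Nat.card_congr (Subgroup.subgroupOfEquivOfLe hKH').toEquiv, hk, hfac])
  let P₂ : Sylow 2 ↥(cj c H) := Sylow.ofCard ((cj c (H ⊓ cj c H)).subgroupOf (cj c H)) (by
    rw [Nat.card_congr (Subgroup.subgroupOfEquivOfLe (cj_mono hKH)).toEquiv, card_cj, hk, hfac])
  obtain ⟨g, hg⟩ := MulAction.exists_smul_eq ↥(cj c H) P₂ P₁
  have hkey : ∀ z : ↥(cj c H), (z : G) ∈ H ⊓ cj c H ↔
      (g : G)⁻¹ * (z : G) * (g : G) ∈ cj c (H ⊓ cj c H) := by
    intro z
    have h1 : z ∈ (P₁ : Subgroup ↥(cj c H)) ↔ z ∈ ((g • P₂ : Sylow 2 ↥(cj c H)) : Subgroup ↥(cj c H)) := by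
      rw [hg]
    rw [Sylow.coe_subgroup_smul, Subgroup.mem_pointwise_smul_iff_inv_smul_mem] at h1
    have h2 : z ∈ (P₁ : Subgroup ↥(cj c H)) ↔ (z : G) ∈ H ⊓ cj c H := by
      change z ∈ (H ⊓ cj c H).subgroupOf (cj c H) ↔ _
      rw [Subgroup.mem_subgroupOf]
    have h3 : (MulAut.conj g)⁻¹ • z ∈ (P₂ : Subgroup ↥(cj c H)) ↔
        (g : G)⁻¹ * (z : G) * (g : G) ∈ cj c (H ⊓ cj c H) := by
      change (MulAut.conj g)⁻¹ • z ∈ (cj c (H ⊓ cj c H)).subgroupOf (cj c H) ↔ _
      rw [Subgroup.mem_subgroupOf]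
      simp [MulAut.smul_def]
    rw [← h2, ← h3]
    exact h1
  refine ⟨(g : G) * c, ?_, ?_⟩
  · rw [mem_normalizer_iff]
    intro y
    have e : (g : G) * c * y * ((g : G) * c)⁻¹ = (g : G) * (c * y * c⁻¹) * (g : G)⁻¹ := by group
    rw [e]
    constructor
    · intro hy
      have h1 : c * y * c⁻¹ ∈ cj c (H ⊓ cj c H) := conj_mem_cj hy
      have hz : (g : G) * (c * y * c⁻¹) * (g : G)⁻¹ ∈ cj c H :=
        Subgroup.mul_mem _ (Subgroup.mul_mem _ g.2 (cj_mono hKH h1)) (Subgroup.inv_mem _ g.2)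
      have h2 := (hkey ⟨_, hz⟩).mpr (by
        have e2 : (g : G)⁻¹ * ((g : G) * (c * y * c⁻¹) * (g : G)⁻¹) * (g : G) = c * y * c⁻¹ := by
          group
        change (g : G)⁻¹ * ((g : G) * (c * y * c⁻¹) * (g : G)⁻¹) * (g : G) ∈ _
        rw [e2]; exact h1)
      exact h2
    · intro hy
      have hz : (g : G) * (c * y * c⁻¹) * (g : G)⁻¹ ∈ cj c H := hKH' hy
      have h2 := (hkey ⟨_, hz⟩).mp hy
      have e2 : (g : G)⁻¹ * ((g : G) * (c * y * c⁻¹) * (g : G)⁻¹) * (g : G) = c * y * c⁻¹ := by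
        group
      change (g : G)⁻¹ * ((g : G) * (c * y * c⁻¹) * (g : G)⁻¹) * (g : G) ∈ _ at h2
      rw [e2, mem_cj] at h2
      have e3 : c⁻¹ * (c * y * c⁻¹) * c = y := by group
      rw [e3] at h2
      exact h2
  · intro hn
    have h1 : c⁻¹ * (g : G) * c ∈ H := mem_cj.mp g.2
    have e : c = (g : G) * c * (c⁻¹ * (g : G) * c)⁻¹ := by group
    apply hc
    rw [e]
    exact H.mul_mem hn (H.inv_mem h1)

end main

section reduction

/-- Part II interface (Tutte, self-paired case): `t ∉ H`, `t * t ∈ H`, `|H| = 3 |H ⊓ t H t⁻¹|`. -/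
def TutteStmt : Prop :=
  ∀ (G : Type u) [Group G] [Finite G] (H : Subgroup G) (t : G),
    IsCoatom H → H.normalCore = ⊥ → t ∉ H → t * t ∈ H →
    Nat.card H = 3 * Nat.card ↥(H ⊓ H.map (MulAut.conj t).toMonoidHom) →
    ∃ k : ℕ, k ≤ 4 ∧ Nat.card ↥(H ⊓ H.map (MulAut.conj t).toMonoidHom) = 2 ^ k

/-- Part III interface (odd case): `K` is not normal in `H` and no `t ∈ N_G(K) ∖ K` has
`t * t ∈ K` (i.e. `|N_G(K) : K|` is odd). -/
def OddStmt : Prop :=
  ∀ (G : Type u) [Group G] [Finite G] (H : Subgroup G) (c : G),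
    IsCoatom H → H.normalCore = ⊥ → c ∉ H →
    Nat.card H = 3 * Nat.card ↥(H ⊓ H.map (MulAut.conj c).toMonoidHom) →
    ¬ H ≤ Subgroup.normalizer ((H ⊓ H.map (MulAut.conj c).toMonoidHom : Subgroup G) : Set G) →
    (∀ t : G,
      t ∈ Subgroup.normalizer ((H ⊓ H.map (MulAut.conj c).toMonoidHom : Subgroup G) : Set G) →
      t * t ∈ H ⊓ H.map (MulAut.conj c).toMonoidHom →
      t ∈ H ⊓ H.map (MulAut.conj c).toMonoidHom) →
    ∃ k : ℕ, k ≤ 4 ∧ Nat.card ↥(H ⊓ H.map (MulAut.conj c).toMonoidHom) = 2 ^ k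

/-- The group form of Sims' theorem follows from the self-paired case and the odd case. -/
theorem GT_of_tutte_odd (hT : TutteStmt.{u}) (hO : OddStmt.{u}) : GTStmt.{u} := by
  intro G _ _ H c hco hcore hc hcard
  have hKH : H ⊓ cj c H ≤ H := inf_le_left
  by_cases hN : H ≤ normalizer ((H ⊓ cj c H : Subgroup G) : Set G)
  · have hbot := K_eq_bot_of_le_normalizer hco hcore hc hcard hN
    refine ⟨0, by norm_num, ?_⟩
    change Nat.card ↥(H ⊓ cj c H) = 2 ^ 0
    rw [hbot, Subgroup.card_bot, pow_zero]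
  · by_cases hex : ∃ t : G, t ∈ normalizer ((H ⊓ cj c H : Subgroup G) : Set G) ∧
        t * t ∈ H ⊓ cj c H ∧ t ∉ H ⊓ cj c H
    · obtain ⟨t, ht, htt, htK⟩ := hex
      have htH : t ∉ H := by
        intro h
        have hKL : H ⊓ cj c H ≤ H ⊓ normalizer ((H ⊓ cj c H : Subgroup G) : Set G) :=
          le_inf hKH le_normalizer
        have hLH : H ⊓ normalizer ((H ⊓ cj c H : Subgroup G) : Set G) ≤ H := inf_le_left
        rcases eq_or_eq_of_le_of_le (K := H ⊓ cj c H)
          (L := H ⊓ normalizer ((H ⊓ cj c H : Subgroup G) : Set G)) (H := H) hKL hLH hcard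
          with h1 | h1
        · apply htK
          rw [← h1]
          exact ⟨h, ht⟩
        · exact hN (inf_eq_left.mp h1)
      have hinf := inf_cj_eq hco hcore hcard ht htH
      have h1 := hT G H t hco hcore htH (hKH htt) (by
        change Nat.card H = 3 * Nat.card ↥(H ⊓ cj t H)
        rw [hinf]; exact hcard)
      change ∃ k : ℕ, k ≤ 4 ∧ Nat.card ↥(H ⊓ cj t H) = 2 ^ k at h1
      rw [hinf] at h1
      exact h1
    · exact hO G H c hco hcore hc hcard hN (fun t ht htt => by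
        by_contra h
        exact hex ⟨t, ht, htt, h⟩)

end reduction

end Cfsg.Agent.Lib.Helper81.Sims
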