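import Mathlib
import Cfsg.Agent.Lib.Helper74.SympBase
import Cfsg.Agent.Lib.Helper81.SpSyl

/-!
# The Sylow `2`-subgroup of `SL₂(q)`, `q` odd (helper81)

A generalized quaternion subgroup `⟨s, w⟩` of `SL₂(F)` of order `(q² - 1)₂`, with `s` in the split
torus (`q ≡ 1 mod 4`) or in the non-split torus (`q ≡ 3 mod 4`, built from the norm-one elements
of `F[i]`), as the base case `HasSyl F (v₂(q² - 1)) 1`.
-/

set_option autoImplicit false

namespace Cfsg.Agent.Lib.Helper81.Sl2Base

open Cfsg.Agent.Lib.Helper74.Wreath Cfsg.Agent.Lib.Helper74.Symp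
  Cfsg.Agent.Lib.Helper74.SympBase Cfsg.Agent.Lib.Helper81.SqD Cfsg.Agent.Lib.Helper81.SpSyl

open Matrix

open scoped commutatorElement

universe u

/-- A finite cyclic group has elements of every order dividing the group order. -/
theorem exists_orderOf_eq {G : Type*} [Group G] [Finite G] [IsCyclic G] {d : ℕ}
    (hd : d ∣ Nat.card G) : ∃ x : G, orderOf x = d := by
  obtain ⟨g, hg⟩ := IsCyclic.exists_generator (α := G)
  have h1 : orderOf g = Nat.card G := orderOf_eq_card_of_forall_mem_zpowers hg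
  obtain ⟨e, he⟩ := hd
  have hpos : 0 < Nat.card G := Nat.card_pos
  have he0 : e ≠ 0 := by
    rintro rfl
    rw [mul_zero] at he
    omega
  have hd0 : d ≠ 0 := by
    rintro rfl
    rw [zero_mul] at he
    omega
  refine ⟨g ^ e, ?_⟩
  rw [orderOf_pow_of_dvd he0 (by rw [h1, he]; exact dvd_mul_left e d), h1, he,
    Nat.mul_div_cancel _ (Nat.pos_of_ne_zero he0)]

/-- `-1` is the only involution of `SL₂(F)` in odd characteristic. -/
theorem sl2_involution {F : Type*} [Field F] (h2 : (2 : F) ≠ 0)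
    (x : SpecialLinearGroup (Fin 2) F) (hx : x * x = 1) (hx1 : x ≠ 1) :
    (x : Matrix (Fin 2) (Fin 2) F) = -1 := by
  obtain ⟨a, ha⟩ : ∃ a : F, a = x.1 0 0 := ⟨_, rfl⟩
  obtain ⟨b, hb⟩ : ∃ b : F, b = x.1 0 1 := ⟨_, rfl⟩
  obtain ⟨c, hc⟩ : ∃ c : F, c = x.1 1 0 := ⟨_, rfl⟩
  obtain ⟨d, hd⟩ : ∃ d : F, d = x.1 1 1 := ⟨_, rfl⟩
  have hdet : a * d - b * c = 1 := by
    rw [ha, hb, hc, hd, ← Matrix.det_fin_two]
    exact x.2
  have hm : x.1 * x.1 = 1 := congrArg Subtype.val hx
  have h00 : a * a + b * c = 1 := by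
    have := congrFun (congrFun hm 0) 0
    simpa [Matrix.mul_apply, Fin.sum_univ_two, ← ha, ← hb, ← hc, ← hd] using this
  have h01 : a * b + b * d = 0 := by
    have := congrFun (congrFun hm 0) 1
    simpa [Matrix.mul_apply, Fin.sum_univ_two, ← ha, ← hb, ← hc, ← hd] using this
  have h10 : c * a + d * c = 0 := by
    have := congrFun (congrFun hm 1) 0
    simpa [Matrix.mul_apply, Fin.sum_univ_two, ← ha, ← hb, ← hc, ← hd] using this
  have hs : a + d ≠ 0 := by
    intro h0
    apply h2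
    linear_combination (-1 : F) * h00 - hdet + a * h0
  have hb0 : b = 0 := by
    have h3 : b * (a + d) = 0 := by linear_combination h01
    rcases mul_eq_zero.1 h3 with h | h
    · exact h
    · exact absurd h hs
  have hc0 : c = 0 := by
    have h3 : c * (a + d) = 0 := by linear_combination h10
    rcases mul_eq_zero.1 h3 with h | h
    · exact h
    · exact absurd h hs
  have haa : a * a = 1 := by
    rw [hb0] at h00
    linear_combination h00
  have had : a * d = 1 := by
    rw [hb0] at hdet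
    linear_combination hdet
  have hda : d = a := by
    linear_combination a * had - d * haa
  have hmat : ∀ y : Matrix (Fin 2) (Fin 2) F, y 0 0 = a → y 0 1 = b → y 1 0 = c → y 1 1 = d →
      x.1 = y := by
    intro y h1 h2' h3 h4
    ext i j
    fin_cases i <;> fin_cases j
    · exact ha.symm.trans h1.symm
    · exact hb.symm.trans h2'.symm
    · exact hc.symm.trans h3.symm
    · exact hd.symm.trans h4.symm
  rcases mul_self_eq_one_iff.1 haa with h | h
  · exfalso
    apply hx1
    apply Subtype.ext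
    apply hmat
    · simp [h]
    · simp [hb0]
    · simp [hc0]
    · simp [hda, h]
  · apply hmat
    · simp [h]
    · simp [hb0]
    · simp [hc0]
    · simp [hda, h]

/-- The base case from a pair `s`, `w` with `s` of order `2 ^ a`, inverted by `w`, `w² = -1`. -/
theorem base_of_pair {F : Type u} [Field F] [Fintype F] (h2 : (2 : F) ≠ 0) {a : ℕ} (ha : 2 ≤ a)
    (s w : SpecialLinearGroup (Fin 2) F) (hs : orderOf s = 2 ^ a) (hsws : s * w * s = w)
    (hw2 : (w : Matrix (Fin 2) (Fin 2) F) * (w : Matrix (Fin 2) (Fin 2) F) = -1) :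
    HasSyl F (a + 1) 1 := by
  classical
  have hfact : Fact (Nat.Prime 2) := ⟨Nat.prime_two⟩
  have ht2 : s ^ 2 ^ (a - 1) * s ^ 2 ^ (a - 1) = 1 := by
    rw [← pow_add, ← two_mul, ← pow_succ', Nat.sub_add_cancel (by omega), ← hs,
      pow_orderOf_eq_one]
  have ht1 : s ^ 2 ^ (a - 1) ≠ 1 := by
    apply pow_ne_one_of_lt_orderOf (by positivity)
    rw [hs]
    exact Nat.pow_lt_pow_right (by norm_num) (by omega)
  have htm := sl2_involution h2 _ ht2 ht1
  have hww : w * w = s ^ 2 ^ (a - 1) := by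
    apply Subtype.ext
    rw [htm]
    exact hw2
  have hconj : w * s * w⁻¹ = s⁻¹ := by
    have h1 : w * s = s⁻¹ * w := by
      rw [eq_inv_mul_iff_mul_eq, ← mul_assoc, hsws]
    rw [h1]
    group
  have hconj' : w⁻¹ * s * w = s⁻¹ := by
    have h1 : s = w⁻¹ * s⁻¹ * w := by
      rw [← hconj]
      group
    have h3 : s⁻¹ = (w⁻¹ * s⁻¹ * w)⁻¹ := by rw [← h1]
    rw [h3]
    group
  have hnorm : Subgroup.zpowers w ≤ Subgroup.normalizer (Subgroup.zpowers s) := by
    rw [Subgroup.zpowers_le, Subgroup.mem_normalizer_iff]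
    intro x
    constructor
    · intro hx
      obtain ⟨m, rfl⟩ := Subgroup.mem_zpowers_iff.1 hx
      have h1 : w * s ^ m * w⁻¹ = (s ^ m)⁻¹ := by
        rw [← conj_zpow, hconj, _root_.inv_zpow]
      rw [h1]
      exact (Subgroup.zpowers s).inv_mem (Subgroup.zpow_mem_zpowers s m)
    · intro hx
      obtain ⟨m, hm⟩ := Subgroup.mem_zpowers_iff.1 hx
      have h1 : x = w⁻¹ * s ^ m * w⁻¹⁻¹ := by
        rw [hm]
        group
      have h3 : w⁻¹ * s ^ m * w⁻¹⁻¹ = (s ^ m)⁻¹ := by
        rw [← conj_zpow, inv_inv, hconj', _root_.inv_zpow]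
      rw [h1, h3]
      exact (Subgroup.zpowers s).inv_mem (Subgroup.zpow_mem_zpowers s m)
  have hs2a : s ^ 2 ^ a = 1 := by
    rw [← hs]
    exact pow_orderOf_eq_one s
  have hw4 : w ^ 2 ^ 2 = 1 := by
    have h1 : w ^ 2 ^ 2 = (w * w) * (w * w) := by
      norm_num [pow_succ, mul_assoc]
    rw [h1, hww, ht2]
  obtain ⟨T, hTdef⟩ : ∃ T : Subgroup (SpecialLinearGroup (Fin 2) F),
      T = Subgroup.closure {w, s} := ⟨_, rfl⟩
  have hTsup : T = Subgroup.zpowers w ⊔ Subgroup.zpowers s := by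
    rw [hTdef, Subgroup.zpowers_eq_closure, Subgroup.zpowers_eq_closure,
      ← Subgroup.closure_union]
    rfl
  have hT : IsPGroup 2 T := by
    rw [hTsup]
    exact IsPGroup.to_sup_of_normal_right' (isPGroup_zpowers_of_pow_eq_one w 2 2 hw4)
      (isPGroup_zpowers_of_pow_eq_one s 2 a hs2a) hnorm
  have hsT : s ∈ T := by
    rw [hTdef]
    exact Subgroup.subset_closure (by simp)
  have hwT : w ∈ T := by
    rw [hTdef]
    exact Subgroup.subset_closure (by simp)
  have hS2 : (⟨s, hsT⟩ : T) ^ 2 ∈ commutator T := by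
    have h1 : (⟨s, hsT⟩ : T) ^ 2 = (⁅(⟨w, hwT⟩ : T), ⟨s, hsT⟩⁆)⁻¹ := by
      apply Subtype.ext
      show s ^ 2 = (w * s * w⁻¹ * s⁻¹)⁻¹
      rw [hconj]
      group
    rw [h1, commutator_def]
    exact Subgroup.inv_mem _
      (Subgroup.commutator_mem_commutator (Subgroup.mem_top _) (Subgroup.mem_top _))
  have hW2 : (⟨w, hwT⟩ : T) ^ 2 ∈ commutator T := by
    have h1 : (⟨w, hwT⟩ : T) ^ 2 = ((⟨s, hsT⟩ : T) ^ 2) ^ 2 ^ (a - 2) := by
      apply Subtype.ext
      show w ^ 2 = (s ^ 2) ^ 2 ^ (a - 2)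
      have h3 : a - 2 + 1 = a - 1 := by omega
      rw [pow_two, hww, ← pow_mul, ← pow_succ', h3]
    rw [h1]
    exact Subgroup.pow_mem _ hS2 _
  have hdvd : 2 ^ (1 * (a + 1) + padicValNat 2 (Nat.factorial 1)) ∣ Nat.card T := by
    obtain ⟨j, hj⟩ := IsPGroup.iff_card.1 hT
    have hle : Subgroup.zpowers s ≤ T := by
      rw [Subgroup.zpowers_le]
      exact hsT
    have hcs : Nat.card (Subgroup.zpowers s) = 2 ^ a := by
      rw [Nat.card_zpowers, hs]
    have h1 : 2 ^ a ∣ 2 ^ j := by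
      rw [← hcs, ← hj]
      exact Subgroup.card_dvd_of_le hle
    have h3 : a ≤ j := (Nat.pow_dvd_pow_iff_le_right (by norm_num)).1 h1
    have h4 : a ≠ j := by
      intro heq
      have h5 : Subgroup.zpowers s = T :=
        Subgroup.eq_of_le_of_card_ge hle (by rw [hcs, hj, heq])
      have h6 : w ∈ Subgroup.zpowers s := by
        rw [h5]
        exact hwT
      obtain ⟨m, hm⟩ := Subgroup.mem_zpowers_iff.1 h6
      have h7 : w * s = s * w := by
        have h := zpow_mul_comm s m 1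
        rw [zpow_one, hm] at h
        exact h
      have h8 : s = s⁻¹ := by
        rw [← hconj, h7]
        group
      have h9 : s ^ 2 = 1 := by
        rw [pow_two]
        nth_rewrite 1 [h8]
        exact inv_mul_cancel s
      have h10 := orderOf_dvd_of_pow_eq_one h9
      rw [hs] at h10
      have h11 := Nat.le_of_dvd (by norm_num) h10
      have h12 : 2 ^ 2 ≤ 2 ^ a := Nat.pow_le_pow_right (by norm_num) ha
      omega
    rw [hj]
    apply pow_dvd_pow
    simp
    omega
  have hsq : SqDer T := by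
    subst hTdef
    apply sqDer_of_closure _ Subgroup.closure_closure_coe_preimage
    rintro ⟨x, hx⟩ hxs
    rcases hxs with h | h
    · have h1 : (⟨x, hx⟩ : Subgroup.closure ({w, s} : Set (SpecialLinearGroup (Fin 2) F))) =
          ⟨w, hwT⟩ := Subtype.ext h
      rw [h1]
      exact hW2
    · have h1 : (⟨x, hx⟩ : Subgroup.closure ({w, s} : Set (SpecialLinearGroup (Fin 2) F))) =
          ⟨s, hsT⟩ := Subtype.ext h
      rw [h1]
      exact hS2
  let σ : Representation F T (Fin 2 → F) :=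
    { toFun := fun g => Matrix.toLin' (g.1.1)
      map_one' := by
        show Matrix.toLin' (1 : Matrix (Fin 2) (Fin 2) F) = 1
        rw [Matrix.toLin'_one]
        rfl
      map_mul' := by
        intro x y
        show Matrix.toLin' (x.1.1 * y.1.1) = _
        rw [Matrix.toLin'_mul]
        rfl }
  have hσinj : Function.Injective σ := by
    intro x y hxy
    have h1 : Matrix.toLin' (x.1.1) = Matrix.toLin' (y.1.1) := hxy
    exact Subtype.ext (Subtype.ext (Matrix.toLin'.injective h1))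
  have hσpres : ∀ (g : T) (x y : Fin 2 → F),
      σ g x 1 * σ g y 0 - σ g x 0 * σ g y 1 = x 1 * y 0 - x 0 * y 1 := by
    intro g x y
    have hdet : g.1.1 0 0 * g.1.1 1 1 - g.1.1 0 1 * g.1.1 1 0 = 1 := by
      rw [← Matrix.det_fin_two]
      exact g.1.2
    show (Matrix.toLin' (g.1.1) x) 1 * (Matrix.toLin' (g.1.1) y) 0 -
      (Matrix.toLin' (g.1.1) x) 0 * (Matrix.toLin' (g.1.1) y) 1 = _
    simp only [Matrix.toLin'_apply, Matrix.mulVec, dotProduct, Fin.sum_univ_two]
    linear_combination (x 1 * y 0 - x 0 * y 1) * hdet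
  obtain ⟨ρ, hinj, hpres⟩ := transport (l := Unit)
    (fun x y : Fin 2 → F => x 1 * y 0 - x 0 * y 1)
    (LinearEquiv.funCongrLeft F F (finTwoEquiv.trans Equiv.boolEquivPUnitSumPUnit))
    (by
      intro u v
      simp only [om, Finset.univ_unique, Finset.sum_singleton]
      rfl)
    σ hσpres hσinj
  exact ⟨Unit, inferInstance, inferInstance, T, inferInstance, inferInstance, ρ,
    Fintype.card_unit, hT, hdvd, hsq, hinj, hpres⟩

/-- The split torus: an element of order `2 ^ a` with `2 ^ a ∣ q - 1`, inverted by `w`. -/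
theorem exists_pair_split {F : Type u} [Field F] [Fintype F] {a : ℕ}
    (hdiv : 2 ^ a ∣ Fintype.card F - 1) :
    ∃ s w : SpecialLinearGroup (Fin 2) F, orderOf s = 2 ^ a ∧ s * w * s = w ∧
      (w : Matrix (Fin 2) (Fin 2) F) * (w : Matrix (Fin 2) (Fin 2) F) = -1 := by
  classical
  have hcard : Nat.card Fˣ = Fintype.card F - 1 := by
    rw [Nat.card_units, Nat.card_eq_fintype_card]
  obtain ⟨ζ, hζ⟩ := exists_orderOf_eq (G := Fˣ) (d := 2 ^ a) (by rw [hcard]; exact hdiv)
  let D : Fˣ →* SpecialLinearGroup (Fin 2) F :=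
    { toFun := fun u => ⟨!![(u : F), 0; 0, ((u⁻¹ : Fˣ) : F)], by
        rw [Matrix.det_fin_two_of]
        simp⟩
      map_one' := by
        apply Subtype.ext
        show !![((1 : Fˣ) : F), 0; 0, (((1 : Fˣ)⁻¹ : Fˣ) : F)] = 1
        rw [Matrix.one_fin_two]
        simp
      map_mul' := by
        intro u v
        apply Subtype.ext
        show !![((u * v : Fˣ) : F), 0; 0, (((u * v)⁻¹ : Fˣ) : F)] =
          !![(u : F), 0; 0, ((u⁻¹ : Fˣ) : F)] * !![(v : F), 0; 0, ((v⁻¹ : Fˣ) : F)]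
        rw [Matrix.mul_fin_two]
        simp [mul_comm] }
  have hD : Function.Injective D := by
    intro u v huv
    have h1 := congrArg (fun m : SpecialLinearGroup (Fin 2) F => m.1 0 0) huv
    exact Units.ext h1
  refine ⟨D ζ, ⟨!![0, 1; -1, 0], by rw [Matrix.det_fin_two_of]; simp⟩, ?_, ?_, ?_⟩
  · rw [orderOf_injective D hD, hζ]
  · apply Subtype.ext
    show !![(ζ : F), 0; 0, ((ζ⁻¹ : Fˣ) : F)] * !![0, 1; -1, 0] *
      !![(ζ : F), 0; 0, ((ζ⁻¹ : Fˣ) : F)] = !![0, 1; -1, 0]
    rw [Matrix.mul_fin_two, Matrix.mul_fin_two]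
    simp
  · show !![(0 : F), 1; -1, 0] * !![(0 : F), 1; -1, 0] = -1
    rw [Matrix.mul_fin_two, Matrix.one_fin_two]
    simp

/-- The non-split torus: for `q ≡ 3 mod 4`, an element of order `2 ^ a` with `2 ^ a ∣ q + 1`,
inverted by `w`. -/
theorem exists_pair_nonsplit {F : Type u} [Field F] [Fintype F]
    (h3 : Fintype.card F % 4 = 3) {a : ℕ} (hdiv : 2 ^ a ∣ Fintype.card F + 1) :
    ∃ s w : SpecialLinearGroup (Fin 2) F, orderOf s = 2 ^ a ∧ s * w * s = w ∧
      (w : Matrix (Fin 2) (Fin 2) F) * (w : Matrix (Fin 2) (Fin 2) F) = -1 := by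
  classical
  have hns : ¬ IsSquare (-1 : F) := by
    rw [FiniteField.isSquare_neg_one_iff]
    simp [h3]
  have hfactK : Fact (∀ r : F, r ^ 2 ≠ (-1 : F) + 0 * r) :=
    ⟨fun r hr => hns ⟨r, by rw [← pow_two, hr]; ring⟩⟩
  have hfinK : Finite (QuadraticAlgebra F (-1) 0) :=
    Finite.of_equiv _ (QuadraticAlgebra.equivProd (-1 : F) 0).symm
  have hcardK : Nat.card (QuadraticAlgebra F (-1) 0) = Fintype.card F ^ 2 := by
    rw [Nat.card_congr (QuadraticAlgebra.equivProd (-1 : F) 0), Nat.card_prod,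
      Nat.card_eq_fintype_card, pow_two]
  have hcardKu : Nat.card (QuadraticAlgebra F (-1) 0)ˣ = Fintype.card F ^ 2 - 1 := by
    rw [Nat.card_units, hcardK]
  obtain ⟨N, hN⟩ : ∃ N : (QuadraticAlgebra F (-1) 0)ˣ →* Fˣ,
      ∀ u : (QuadraticAlgebra F (-1) 0)ˣ, ((N u : Fˣ) : F) =
        QuadraticAlgebra.norm (u : QuadraticAlgebra F (-1) 0) :=
    ⟨Units.map (QuadraticAlgebra.norm : QuadraticAlgebra F (-1) 0 →* F), fun u => rfl⟩
  have h1 : Nat.card N.ker * Nat.card N.range = Fintype.card F ^ 2 - 1 := by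
    rw [← Subgroup.index_ker, Subgroup.card_mul_index, hcardKu]
  have h2 : Nat.card N.range ∣ Fintype.card F - 1 := by
    have h := Subgroup.card_subgroup_dvd_card N.range
    have hcu : Nat.card Fˣ = Fintype.card F - 1 := by
      rw [Nat.card_units, Nat.card_eq_fintype_card]
    rwa [hcu] at h
  have hq : 1 < Fintype.card F := Fintype.one_lt_card
  have h4 : Fintype.card F + 1 ∣ Nat.card N.ker := by
    obtain ⟨j, hj⟩ := h2
    have hr0 : 0 < Nat.card N.range := Nat.card_pos
    have h5 : Fintype.card F ^ 2 - 1 = (Fintype.card F - 1) * (Fintype.card F + 1) := by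
      obtain ⟨t, ht⟩ : ∃ t, Fintype.card F = t + 1 := ⟨Fintype.card F - 1, by omega⟩
      rw [ht, Nat.add_sub_cancel]
      have h6 : (t + 1) ^ 2 = t * (t + 1 + 1) + 1 := by ring
      rw [h6, Nat.add_sub_cancel]
    rw [h5, hj] at h1
    have h7 : Nat.card N.ker = j * (Fintype.card F + 1) :=
      Nat.eq_of_mul_eq_mul_right hr0 (by rw [h1]; ring)
    rw [h7]
    exact dvd_mul_left _ _
  obtain ⟨z, hz⟩ := exists_orderOf_eq (G := N.ker) (d := 2 ^ a) (hdiv.trans h4)
  have hnorm : ∀ z : N.ker, (z.1 : QuadraticAlgebra F (-1) 0).re * (z.1 : QuadraticAlgebra F (-1) 0).re +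
      (z.1 : QuadraticAlgebra F (-1) 0).im * (z.1 : QuadraticAlgebra F (-1) 0).im = 1 := by
    intro z
    have h5 : N z.1 = 1 := z.2
    have h6 : ((N z.1 : Fˣ) : F) = 1 := by rw [h5]; rfl
    have h7 : QuadraticAlgebra.norm (z.1 : QuadraticAlgebra F (-1) 0) = 1 := by
      rw [← hN]
      exact h6
    rw [QuadraticAlgebra.norm_def] at h7
    linear_combination h7
  let Mh : N.ker →* SpecialLinearGroup (Fin 2) F :=
    { toFun := fun z => ⟨!![(z.1 : QuadraticAlgebra F (-1) 0).re,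
          -(z.1 : QuadraticAlgebra F (-1) 0).im;
          (z.1 : QuadraticAlgebra F (-1) 0).im, (z.1 : QuadraticAlgebra F (-1) 0).re], by
        rw [Matrix.det_fin_two_of]
        linear_combination hnorm z⟩
      map_one' := by
        apply Subtype.ext
        show !![(((1 : N.ker) : (QuadraticAlgebra F (-1) 0)ˣ) : QuadraticAlgebra F (-1) 0).re,
          -(((1 : N.ker) : (QuadraticAlgebra F (-1) 0)ˣ) : QuadraticAlgebra F (-1) 0).im;
          (((1 : N.ker) : (QuadraticAlgebra F (-1) 0)ˣ) : QuadraticAlgebra F (-1) 0).im,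
          (((1 : N.ker) : (QuadraticAlgebra F (-1) 0)ˣ) : QuadraticAlgebra F (-1) 0).re] = 1
        rw [Matrix.one_fin_two]
        simp [QuadraticAlgebra.re_one, QuadraticAlgebra.im_one]
      map_mul' := by
        intro u v
        apply Subtype.ext
        show !![(((u * v : N.ker) : (QuadraticAlgebra F (-1) 0)ˣ) : QuadraticAlgebra F (-1) 0).re,
          -(((u * v : N.ker) : (QuadraticAlgebra F (-1) 0)ˣ) : QuadraticAlgebra F (-1) 0).im;
          (((u * v : N.ker) : (QuadraticAlgebra F (-1) 0)ˣ) : QuadraticAlgebra F (-1) 0).im,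
          (((u * v : N.ker) : (QuadraticAlgebra F (-1) 0)ˣ) : QuadraticAlgebra F (-1) 0).re] =
          !![(u.1 : QuadraticAlgebra F (-1) 0).re, -(u.1 : QuadraticAlgebra F (-1) 0).im;
            (u.1 : QuadraticAlgebra F (-1) 0).im, (u.1 : QuadraticAlgebra F (-1) 0).re] *
          !![(v.1 : QuadraticAlgebra F (-1) 0).re, -(v.1 : QuadraticAlgebra F (-1) 0).im;
            (v.1 : QuadraticAlgebra F (-1) 0).im, (v.1 : QuadraticAlgebra F (-1) 0).re]
        rw [Matrix.mul_fin_two]
        simp only [Subgroup.coe_mul, Units.val_mul, QuadraticAlgebra.re_mul,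
          QuadraticAlgebra.im_mul]
        ext i j
        fin_cases i <;> fin_cases j <;> simp <;> ring }
  have hMh : Function.Injective Mh := by
    intro u v huv
    have h5 := congrArg (fun m : SpecialLinearGroup (Fin 2) F => m.1 0 0) huv
    have h6 := congrArg (fun m : SpecialLinearGroup (Fin 2) F => m.1 1 0) huv
    exact Subtype.ext (Units.ext (QuadraticAlgebra.ext h5 h6))
  obtain ⟨ℓ, hℓ⟩ := CharP.exists F
  obtain ⟨r, hprime, hcardF⟩ := FiniteField.card F ℓ
  have hfactℓ : Fact ℓ.Prime := ⟨hprime⟩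
  obtain ⟨x', y', hxy'⟩ := CharP.sq_add_sq F ℓ (-1)
  obtain ⟨x, hx⟩ : ∃ x : F, x = (x' : F) := ⟨_, rfl⟩
  obtain ⟨y, hy⟩ : ∃ y : F, y = (y' : F) := ⟨_, rfl⟩
  have hxy : x ^ 2 + y ^ 2 = -1 := by
    rw [hx, hy, hxy']
    simp
  refine ⟨Mh z, ⟨!![x, y; y, -x], by rw [Matrix.det_fin_two_of]; linear_combination -hxy⟩,
    ?_, ?_, ?_⟩
  · rw [orderOf_injective Mh hMh, hz]
  · apply Subtype.ext
    show !![(z.1 : QuadraticAlgebra F (-1) 0).re, -(z.1 : QuadraticAlgebra F (-1) 0).im;
          (z.1 : QuadraticAlgebra F (-1) 0).im, (z.1 : QuadraticAlgebra F (-1) 0).re] *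
        !![x, y; y, -x] *
        !![(z.1 : QuadraticAlgebra F (-1) 0).re, -(z.1 : QuadraticAlgebra F (-1) 0).im;
          (z.1 : QuadraticAlgebra F (-1) 0).im, (z.1 : QuadraticAlgebra F (-1) 0).re] =
      !![x, y; y, -x]
    rw [Matrix.mul_fin_two, Matrix.mul_fin_two]
    have hn := hnorm z
    ext i j
    fin_cases i <;> fin_cases j
    · show _ = x
      simp
      linear_combination x * hn
    · show _ = y
      simp
      linear_combination y * hn
    · show _ = y
      simp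
      linear_combination y * hn
    · show _ = -x
      simp
      linear_combination (-x) * hn
  · show !![x, y; y, -x] * !![x, y; y, -x] = -1
    rw [Matrix.mul_fin_two]
    have e1 : x * x + y * y = -1 := by linear_combination hxy
    have e2 : x * y + y * -x = 0 := by ring
    have e3 : y * x + -x * y = 0 := by ring
    have e4 : y * y + -x * -x = -1 := by linear_combination hxy
    rw [e1, e2, e3, e4, Matrix.one_fin_two]
    simp

theorem val_two_of_mod_four {x : ℕ} (h : x % 4 = 2) : padicValNat 2 x = 1 := by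
  have hfact : Fact (Nat.Prime 2) := ⟨Nat.prime_two⟩
  obtain ⟨m, hm⟩ : ∃ m, x = 2 * m := ⟨x / 2, by omega⟩
  have hm1 : m % 2 = 1 := by omega
  rw [hm, padicValNat.mul (by norm_num) (by omega), padicValNat_self,
    padicValNat.eq_zero_of_not_dvd (by omega)]

/-- The base case for the Sylow `2`-subgroups of symplectic groups in odd characteristic. -/
theorem hasSyl_base {F : Type u} [Field F] [Fintype F] (hodd : Odd (Fintype.card F)) :
    HasSyl F (padicValNat 2 (Fintype.card F ^ 2 - 1)) 1 := by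
  classical
  have hfact : Fact (Nat.Prime 2) := ⟨Nat.prime_two⟩
  obtain ⟨ℓ, hℓ⟩ := CharP.exists F
  obtain ⟨r, hprime, hcard⟩ := FiniteField.card F ℓ
  have h2 : (2 : F) ≠ 0 := by
    intro h0
    have h1 : ((2 : ℕ) : F) = 0 := by exact_mod_cast h0
    have h3 : ℓ ∣ 2 := (CharP.cast_eq_zero_iff F ℓ 2).1 h1
    have h4 : ℓ = 2 := (Nat.prime_dvd_prime_iff_eq hprime Nat.prime_two).1 h3
    rw [hcard, h4] at hodd
    exact (Nat.not_even_iff_odd.2 hodd) (Nat.even_pow.2 ⟨even_two, r.ne_zero⟩)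
  obtain ⟨q, hq⟩ : ∃ q, q = Fintype.card F := ⟨_, rfl⟩
  have hq1 : 1 < q := by
    rw [hq]
    exact Fintype.one_lt_card
  rw [← hq] at hodd ⊢
  obtain ⟨t, ht⟩ := hodd
  have hc : padicValNat 2 (q ^ 2 - 1) = padicValNat 2 (q + 1) + padicValNat 2 (q - 1) := by
    have h := padicValNat.pow_two_sub_pow (x := q) (y := 1) hq1 ⟨t, by omega⟩
      (by rintro ⟨u, hu⟩; omega) (n := 2) (by norm_num) (by decide)
    rw [one_pow, padicValNat_self] at h
    omega
  rcases Nat.even_or_odd t with hte | hto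
  · -- `q ≡ 1 mod 4`
    obtain ⟨u, hu⟩ := hte
    have hq4 : q % 4 = 1 := by omega
    have h5 : padicValNat 2 (q + 1) = 1 := val_two_of_mod_four (by omega)
    have h6 : 2 ≤ padicValNat 2 (q - 1) :=
      (padicValNat_dvd_iff_le (by omega)).1 ⟨u, by omega⟩
    have h7 : 2 ^ padicValNat 2 (q - 1) ∣ Fintype.card F - 1 := by
      rw [← hq]
      exact pow_padicValNat_dvd
    obtain ⟨s, w, hs, hsws, hw2⟩ := exists_pair_split h7
    have h8 := base_of_pair h2 h6 s w hs hsws hw2
    rw [hc, h5, add_comm]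
    exact h8
  · -- `q ≡ 3 mod 4`
    obtain ⟨u, hu⟩ := hto
    have hq4 : q % 4 = 3 := by omega
    have h5 : padicValNat 2 (q - 1) = 1 := val_two_of_mod_four (by omega)
    have h6 : 2 ≤ padicValNat 2 (q + 1) :=
      (padicValNat_dvd_iff_le (by omega)).1 ⟨u + 1, by omega⟩
    have h7 : 2 ^ padicValNat 2 (q + 1) ∣ Fintype.card F + 1 := by
      rw [← hq]
      exact pow_padicValNat_dvd
    obtain ⟨s, w, hs, hsws, hw2⟩ := exists_pair_nonsplit (by rw [← hq]; exact hq4) h7
    have h8 := base_of_pair h2 h6 s w hs hsws hw2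
    rw [hc, h5]
    exact h8

end Cfsg.Agent.Lib.Helper81.Sl2Base
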