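import Mathlib
import Cfsg.Agent.Lib.Helper81.SqDer

/-!
# `SqDer` for Sylow 2-subgroups passes to homomorphic images

If every Sylow 2-subgroup `P` of a finite group `X` satisfies `SqDer P` (squares lie in the
derived subgroup), then so does every Sylow 2-subgroup of any homomorphic image of `X`
(in particular of any quotient and of any isomorphic copy).
-/

set_option autoImplicit false

namespace Cfsg.Agent.Lib.Helper81.SqD

theorem sylow_sqDer_of_surjective {X Y : Type*} [Group X] [Finite X] [Group Y] (f : X →* Y)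
    (hf : Function.Surjective f) (hX : ∀ P : Sylow 2 X, SqDer P) (Q : Sylow 2 Y) : SqDer Q := by
  have : Fact (Nat.Prime 2) := ⟨Nat.prime_two⟩
  obtain ⟨P, hP⟩ := Sylow.mapSurjective_surjective hf 2 Q
  have hPQ : (Q : Subgroup Y) = (P : Subgroup X).map f := by
    rw [← hP]
    rfl
  have hmem : ∀ x : (P : Subgroup X), f x ∈ (Q : Subgroup Y) := by
    intro x
    rw [hPQ]
    exact Subgroup.mem_map_of_mem f x.2
  let g : (P : Subgroup X) →* (Q : Subgroup Y) :=
    (f.comp (P : Subgroup X).subtype).codRestrict _ hmem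
  have hg : Function.Surjective g := by
    rintro ⟨y, hy⟩
    rw [hPQ] at hy
    obtain ⟨x, hx, rfl⟩ := hy
    exact ⟨⟨x, hx⟩, Subtype.ext rfl⟩
  exact SqDer.of_surjective g hg (hX P)

theorem sylow_sqDer_of_mulEquiv {X Y : Type*} [Group X] [Finite X] [Group Y] (e : X ≃* Y)
    (hX : ∀ P : Sylow 2 X, SqDer P) (Q : Sylow 2 Y) : SqDer Q :=
  sylow_sqDer_of_surjective e.toMonoidHom e.surjective hX Q

end Cfsg.Agent.Lib.Helper81.SqD
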