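import Mathlib

/-!
# `2`-adic valuations of `q ^ m - 1` for odd `q` and of the order of `Sp_{2n}(q)` (helper81)
-/

set_option autoImplicit false

namespace Cfsg.Agent.Lib.Helper81.ValTwo

theorem not_two_dvd_of_odd {q : ℕ} (hodd : Odd q) : ¬ 2 ∣ q := by
  obtain ⟨t, ht⟩ := hodd
  rintro ⟨u, hu⟩
  omega

theorem two_dvd_sub_one_of_odd {q : ℕ} (hodd : Odd q) : 2 ∣ q - 1 := by
  obtain ⟨t, ht⟩ := hodd
  exact ⟨t, by omega⟩

/-- `v₂(q² - 1) = v₂(q + 1) + v₂(q - 1)` for odd `q > 1`. -/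
theorem val_sq_sub_one {q : ℕ} (hq1 : 1 < q) (hodd : Odd q) :
    padicValNat 2 (q ^ 2 - 1) = padicValNat 2 (q + 1) + padicValNat 2 (q - 1) := by
  have hfact : Fact (Nat.Prime 2) := ⟨Nat.prime_two⟩
  have h := padicValNat.pow_two_sub_pow (x := q) (y := 1) hq1 (two_dvd_sub_one_of_odd hodd)
    (not_two_dvd_of_odd hodd) (n := 2) (by norm_num) (by decide)
  rw [one_pow, padicValNat_self] at h
  omega

/-- `v₂(q ^ (2m) - 1) = v₂(q² - 1) + v₂(m)` for odd `q > 1`, `m ≠ 0`. -/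
theorem val_pow_even_sub_one {q : ℕ} (hq1 : 1 < q) (hodd : Odd q) {m : ℕ} (hm : m ≠ 0) :
    padicValNat 2 (q ^ (2 * m) - 1) = padicValNat 2 (q ^ 2 - 1) + padicValNat 2 m := by
  have hfact : Fact (Nat.Prime 2) := ⟨Nat.prime_two⟩
  have h := padicValNat.pow_two_sub_pow (x := q) (y := 1) hq1 (two_dvd_sub_one_of_odd hodd)
    (not_two_dvd_of_odd hodd) (n := 2 * m) (by omega) (even_two_mul m)
  rw [one_pow, padicValNat.mul (by norm_num) hm, padicValNat_self] at h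
  rw [val_sq_sub_one hq1 hodd]
  omega

theorem one_lt_pow_sub {q : ℕ} (hq1 : 1 < q) {m : ℕ} (hm : m ≠ 0) : q ^ m - 1 ≠ 0 := by
  have h1 : 2 ≤ q ^ m := le_trans hq1 (Nat.le_self_pow hm q)
  omega

/-- The `2`-part of the order formula of `Sp_{2n}(q)`, `q` odd. -/
theorem val_card_sp {q : ℕ} (hq1 : 1 < q) (hodd : Odd q) (n : ℕ) :
    padicValNat 2 (q ^ (n ^ 2) * ∏ i ∈ Finset.range n, (q ^ (2 * (i + 1)) - 1)) =
      n * padicValNat 2 (q ^ 2 - 1) + padicValNat 2 n.factorial := by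
  have hfact : Fact (Nat.Prime 2) := ⟨Nat.prime_two⟩
  have hne : ∀ n : ℕ, ∏ i ∈ Finset.range n, (q ^ (2 * (i + 1)) - 1) ≠ 0 := by
    intro n
    exact Finset.prod_ne_zero_iff.2 fun i _ => one_lt_pow_sub hq1 (by omega)
  have hprod : ∀ n : ℕ, padicValNat 2 (∏ i ∈ Finset.range n, (q ^ (2 * (i + 1)) - 1)) =
      n * padicValNat 2 (q ^ 2 - 1) + padicValNat 2 n.factorial := by
    intro n
    induction n with
    | zero => simp
    | succ n ih =>
      rw [Finset.prod_range_succ, padicValNat.mul (hne n) (one_lt_pow_sub hq1 (by omega)), ih,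
        val_pow_even_sub_one hq1 hodd (by omega), Nat.factorial_succ,
        padicValNat.mul (by omega) (Nat.factorial_ne_zero n), Nat.succ_mul]
      omega
  have hq0 : q ^ (n ^ 2) ≠ 0 := by positivity
  rw [padicValNat.mul hq0 (hne n), hprod,
    padicValNat.eq_zero_of_not_dvd (fun h => not_two_dvd_of_odd hodd (Nat.prime_two.dvd_of_dvd_pow h)),
    zero_add]

end Cfsg.Agent.Lib.Helper81.ValTwo
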